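import Mathlib
import Cfsg.Prelude.Def_LieTypeDatum
import Cfsg.Agent.Lib.AutPSL.Quot
import Cfsg.Agent.Lib.AutPSL.GraphSplit
import Cfsg.Agent.Lib.Linear.Symplectic

/-!
The standard automorphisms of `PSp_{2m}(F)`: those induced by similitudes and by field automorphisms.
-/

set_option autoImplicit false

namespace CfsgLib.AutPSp

open Matrix Cfsg
open scoped MatrixGroups
open CfsgLib.AutPSL (descend descend_mk eq_descend_iff simGroup GSp_eq spToGL spToGL_coe)
open CfsgLib.Linear.Symp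

variable {m : ℕ} {F : Type*} [Field F]

/-- `Sp_{2m}`, shorthand. -/
abbrev Spg (m : ℕ) (F : Type*) [Field F] : Type _ := ↥(Matrix.symplecticGroup (Fin m) F)

/-- The underlying matrix type. -/
abbrev Mat (m : ℕ) (F : Type*) : Type _ := Matrix (Fin m ⊕ Fin m) (Fin m ⊕ Fin m) F

theorem mem_GSp_iff {g : GL (Fin m ⊕ Fin m) F} :
    g ∈ Cfsg.GSp m F ↔ ∃ c : Fˣ, (g : Mat m F)ᵀ * Matrix.J (Fin m) F * g = (c : F) • Matrix.J (Fin m) F := by
  rw [GSp_eq]; rfl

theorem conj_mem (g : ↥(Cfsg.GSp m F)) (s : Spg m F) :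
    ((g : GL (Fin m ⊕ Fin m) F) : Mat m F) * s.1 * (((g : GL (Fin m ⊕ Fin m) F)⁻¹ : GL (Fin m ⊕ Fin m) F) : Mat m F) ∈
      Matrix.symplecticGroup (Fin m) F := by
  obtain ⟨c, hc⟩ := mem_GSp_iff.mp g.2
  obtain ⟨d, hd⟩ := mem_GSp_iff.mp ((Cfsg.GSp m F).inv_mem g.2)
  rw [SymplecticGroup.mem_iff']
  set G : Mat m F := ((g : GL (Fin m ⊕ Fin m) F) : Mat m F)
  set G' : Mat m F := (((g : GL (Fin m ⊕ Fin m) F)⁻¹ : GL (Fin m ⊕ Fin m) F) : Mat m F)
  have hGG : G * G' = 1 := Units.mul_inv _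
  have hdc : (d : F) • ((c : F) • Matrix.J (Fin m) F) = Matrix.J (Fin m) F := by
    rw [smul_comm, ← hd, ← Matrix.smul_mul, ← Matrix.mul_smul, ← hc]
    calc G'ᵀ * (Gᵀ * Matrix.J (Fin m) F * G) * G' = (G * G')ᵀ * Matrix.J (Fin m) F * (G * G') := by
          simp only [Matrix.transpose_mul, Matrix.mul_assoc]
      _ = _ := by rw [hGG, Matrix.transpose_one, Matrix.one_mul, Matrix.mul_one]
  calc (G * s.1 * G')ᵀ * Matrix.J (Fin m) F * (G * s.1 * G') =
      G'ᵀ * (s.1ᵀ * (Gᵀ * Matrix.J (Fin m) F * G) * s.1) * G' := by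
        simp only [Matrix.transpose_mul, Matrix.mul_assoc]
    _ = (c : F) • ((d : F) • Matrix.J (Fin m) F) := by
        rw [hc, Matrix.mul_smul, Matrix.smul_mul, SymplecticGroup.mem_iff'.mp s.2, Matrix.mul_smul, Matrix.smul_mul, hd]
    _ = _ := by rw [smul_comm, hdc]

/-- Conjugation by a similitude on `Sp_{2m}`. -/
def conjSp : ↥(Cfsg.GSp m F) →* MulAut (Spg m F) where
  toFun g :=
    { toFun := fun s => ⟨_, conj_mem g s⟩
      invFun := fun s => ⟨_, conj_mem g⁻¹ s⟩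
      left_inv := fun s => Subtype.ext (by simp [Matrix.mul_assoc])
      right_inv := fun s => Subtype.ext (by simp [Matrix.mul_assoc])
      map_mul' := fun s t => Subtype.ext (by simp [Matrix.mul_assoc]) }
  map_one' := MulEquiv.ext fun s => Subtype.ext (by simp)
  map_mul' g h := MulEquiv.ext fun s => Subtype.ext (by simp [_root_.mul_inv_rev, Matrix.mul_assoc])

theorem conjSp_coe (g : ↥(Cfsg.GSp m F)) (s : Spg m F) :
    (conjSp g s).1 = ((g : GL (Fin m ⊕ Fin m) F) : Mat m F) * s.1 *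
      (((g : GL (Fin m ⊕ Fin m) F)⁻¹ : GL (Fin m ⊕ Fin m) F) : Mat m F) := rfl

theorem J_map (σ : F ≃+* F) : (Matrix.J (Fin m) F).map σ = Matrix.J (Fin m) F := by
  ext (i | i) (j | j) <;> simp [Matrix.J, Matrix.one_apply, apply_ite σ]

theorem map_mem (σ : F ≃+* F) (s : Spg m F) : s.1.map σ ∈ Matrix.symplecticGroup (Fin m) F := by
  rw [SymplecticGroup.mem_iff']
  have h := congrArg (fun A : Mat m F => A.map σ.toRingHom) (SymplecticGroup.mem_iff'.mp s.2)
  simp only [Matrix.map_mul] at h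
  rw [Matrix.transpose_map] at *
  conv_lhs => rw [← J_map σ]
  exact h.trans (J_map σ)

/-- A field automorphism applied entrywise on `Sp_{2m}`. -/
def fieldSp : (F ≃+* F) →* MulAut (Spg m F) where
  toFun σ :=
    { toFun := fun s => ⟨s.1.map σ, map_mem σ s⟩
      invFun := fun s => ⟨s.1.map σ.symm, map_mem σ.symm s⟩
      left_inv := fun s => Subtype.ext (by ext i j; simp)
      right_inv := fun s => Subtype.ext (by ext i j; simp)
      map_mul' := fun s t => Subtype.ext (Matrix.map_mul (f := σ.toRingHom)) }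
  map_one' := by ext s : 2; rfl
  map_mul' σ τ := by ext s : 2; rfl

theorem fieldSp_coe (σ : F ≃+* F) (s : Spg m F) : (fieldSp σ s).1 = s.1.map σ := rfl

/-- The automorphism of `PSp` induced by a similitude. -/
def simAut : ↥(Cfsg.GSp m F) →* MulAut (Cfsg.PSp m F) := descend.comp conjSp

/-- The standard field automorphism of `PSp`. -/
def fieldAut : (F ≃+* F) →* MulAut (Cfsg.PSp m F) := descend.comp fieldSp

@[simp] theorem simAut_mk (g : ↥(Cfsg.GSp m F)) (s : Spg m F) :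
    simAut g (QuotientGroup.mk s) = QuotientGroup.mk (conjSp g s) := rfl

@[simp] theorem fieldAut_mk (σ : F ≃+* F) (s : Spg m F) :
    fieldAut σ (QuotientGroup.mk s) = QuotientGroup.mk (fieldSp σ s) := rfl

/-- `Sp` inside `GSp`. -/
noncomputable def spToGSp : Spg m F →* ↥(Cfsg.GSp m F) :=
  (spToGL (F := F) (m := m)).codRestrict _ fun A => mem_GSp_iff.mpr
    ⟨1, by rw [spToGL_coe, SymplecticGroup.mem_iff'.mp A.2, Units.val_one, one_smul]⟩

theorem spToGSp_coe (A : Spg m F) : ((spToGSp A : GL (Fin m ⊕ Fin m) F) : Mat m F) = A.1 := rfl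

theorem conjSp_spToGSp (A : Spg m F) : conjSp (spToGSp A) = MulAut.conj A := by
  refine MulEquiv.ext fun s => Subtype.ext ?_
  rw [conjSp_coe, MulAut.conj_apply]
  have h : ((((spToGSp A : ↥(Cfsg.GSp m F)) : GL (Fin m ⊕ Fin m) F)⁻¹ : GL (Fin m ⊕ Fin m) F) : Mat m F) = (A⁻¹).1 := by
    rw [← InvMemClass.coe_inv, ← map_inv]; rfl
  rw [h]
  rfl

theorem simAut_spToGSp (A : Spg m F) :
    simAut (spToGSp A) = MulAut.conj (QuotientGroup.mk A : Cfsg.PSp m F) := by
  show descend (conjSp _) = _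
  rw [conjSp_spToGSp, CfsgLib.AutPSL.descend_conj]

theorem GSp_map_mem (σ : F ≃+* F) {g : GL (Fin m ⊕ Fin m) F} (hg : g ∈ Cfsg.GSp m F) :
    Matrix.GeneralLinearGroup.map σ.toRingHom g ∈ Cfsg.GSp m F := by
  obtain ⟨c, hc⟩ := mem_GSp_iff.mp hg
  refine mem_GSp_iff.mpr ⟨Units.map σ.toMonoidHom c, ?_⟩
  have h := congrArg (fun A : Mat m F => A.map σ.toRingHom) hc
  simp only [Matrix.map_mul, Matrix.transpose_map] at h
  have hJ : (Matrix.J (Fin m) F).map σ.toRingHom = Matrix.J (Fin m) F := J_map σ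
  rw [Matrix.map_smul' σ.toRingHom _ _ (map_mul _), hJ] at h
  exact h

/-- A field automorphism applied entrywise on `GSp`. -/
def gspMap (σ : F ≃+* F) : ↥(Cfsg.GSp m F) →* ↥(Cfsg.GSp m F) :=
  ((Matrix.GeneralLinearGroup.map σ.toRingHom).comp (Cfsg.GSp m F).subtype).codRestrict _
    fun g => GSp_map_mem σ g.2

theorem fieldSp_conjSp (σ : F ≃+* F) (g : ↥(Cfsg.GSp m F)) :
    fieldSp σ * conjSp g = conjSp (gspMap σ g) * fieldSp σ := by
  refine MulEquiv.ext fun s => Subtype.ext ?_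
  simp only [MulAut.mul_apply, fieldSp_coe, conjSp_coe]
  show (_ * s.1 * _ : Mat m F).map σ.toRingHom = _
  rw [Matrix.map_mul, Matrix.map_mul]
  rfl

theorem fieldAut_simAut (σ : F ≃+* F) (g : ↥(Cfsg.GSp m F)) :
    fieldAut σ * simAut g = simAut (gspMap σ g) * fieldAut σ := by
  simp only [fieldAut, simAut, MonoidHom.comp_apply, ← map_mul, fieldSp_conjSp]

/-! ### The predicates of the prelude -/

theorem isInducedBySemilinearPSp_iff {g : ↥(Cfsg.GSp m F)} {σ : F ≃+* F} {β : MulAut (Cfsg.PSp m F)} :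
    Cfsg.IsInducedBySemilinearPSp (g : GL (Fin m ⊕ Fin m) F) σ β ↔ β = simAut g * fieldAut σ := by
  constructor
  · intro h
    ext x
    induction x using QuotientGroup.induction_on with
    | _ s => exact h s (conjSp g (fieldSp σ s)) rfl
  · rintro rfl s s' h
    rw [MulAut.mul_apply, fieldAut_mk, simAut_mk]
    exact congrArg _ (Subtype.ext h.symm)

theorem isStdFieldAutPSp_iff {σ : F ≃+* F} {β : MulAut (Cfsg.PSp m F)} :
    Cfsg.IsStdFieldAutPSp σ β ↔ β = fieldAut σ := by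
  constructor
  · intro h
    exact eq_descend_iff.mpr fun s => h s (fieldSp σ s) rfl
  · rintro rfl s s' h
    exact (fieldAut_mk σ s).trans (congrArg _ (Subtype.ext h.symm))

theorem inndiagPSp_eq : Cfsg.inndiagPSp m F = (simAut (m := m) (F := F)).range := by
  have : {β : MulAut (Cfsg.PSp m F) | Cfsg.IsInnerDiagonalAutPSp β} =
      ((simAut (m := m) (F := F)).range : Set _) := by
    ext β
    rw [Set.mem_ofPred_eq, SetLike.mem_coe, MonoidHom.mem_range]
    have h1 : fieldAut (m := m) (RingEquiv.refl F) = 1 := map_one _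
    constructor
    · rintro ⟨g, hg, h⟩
      exact ⟨⟨g, hg⟩, by rw [(isInducedBySemilinearPSp_iff (g := ⟨g, hg⟩)).mp h, h1, mul_one]⟩
    · rintro ⟨g, rfl⟩
      exact ⟨g.1, g.2, isInducedBySemilinearPSp_iff.mpr (by rw [h1, mul_one])⟩
  show Subgroup.closure {β : MulAut (Cfsg.PSp m F) | Cfsg.IsInnerDiagonalAutPSp β} = _
  rw [this, Subgroup.closure_eq]

theorem gammaPSp_eq_top
    (h : ∀ β : MulAut (Cfsg.PSp m F), ∃ (g : ↥(Cfsg.GSp m F)) (σ : F ≃+* F), β = simAut g * fieldAut σ) :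
    Cfsg.gammaPSp m F = ⊤ := by
  rw [eq_top_iff]
  intro β _
  obtain ⟨g, σ, hβ⟩ := h β
  exact Subgroup.subset_closure ⟨g.1, σ, g.2, isInducedBySemilinearPSp_iff.mpr hβ⟩

/-! ### Action on transvections -/

theorem conjSp_tv {g : ↥(Cfsg.GSp m F)} {c : Fˣ}
    (hc : ((g : GL (Fin m ⊕ Fin m) F) : Mat m F)ᵀ * Matrix.J (Fin m) F * ((g : GL (Fin m ⊕ Fin m) F) : Mat m F) =
      (c : F) • Matrix.J (Fin m) F) (v : Fin m ⊕ Fin m → F) (t : F) :
    conjSp g (tv v t) = tv (((g : GL (Fin m ⊕ Fin m) F) : Mat m F) *ᵥ v) (t / c) := by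
  set G : Mat m F := ((g : GL (Fin m ⊕ Fin m) F) : Mat m F)
  refine group_ext fun x => ?_
  obtain ⟨y, rfl⟩ : ∃ y, G *ᵥ y = x := ⟨(((g : GL (Fin m ⊕ Fin m) F)⁻¹ : GL (Fin m ⊕ Fin m) F) : Mat m F) *ᵥ x,
    by rw [Matrix.mulVec_mulVec, Units.mul_inv, Matrix.one_mulVec]⟩
  have hf : sympForm m F (G *ᵥ y) (G *ᵥ v) = (c : F) * sympForm m F y v := by
    unfold sympForm
    rw [← Matrix.vecMul_transpose, ← Matrix.dotProduct_mulVec, Matrix.mulVec_mulVec, Matrix.mulVec_mulVec,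
      hc, Matrix.smul_mulVec, dotProduct_smul, smul_eq_mul]
  rw [tv_smul, hf, div_mul_eq_mul_div, mul_comm (c : F), ← mul_assoc, mul_div_assoc, div_self c.ne_zero, mul_one]
  rw [show conjSp g (tv v t) • (G *ᵥ y) = (conjSp g (tv v t)).1 *ᵥ (G *ᵥ y) from rfl, conjSp_coe,
    Matrix.mulVec_mulVec, Matrix.mul_assoc, Units.inv_mul, Matrix.mul_one, ← Matrix.mulVec_mulVec,
    show (tv v t).1 *ᵥ y = tv v t • y from rfl, tv_smul, Matrix.mulVec_add, Matrix.mulVec_smul]

theorem fieldSp_tv (σ : F ≃+* F) (v : Fin m ⊕ Fin m → F) (t : F) :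
    fieldSp σ (tv v t) = tv (fun i => σ (v i)) (σ t) := by
  refine group_ext fun x => ?_
  obtain ⟨y, rfl⟩ : ∃ y : Fin m ⊕ Fin m → F, (fun i => σ (y i)) = x :=
    ⟨fun i => σ.symm (x i), funext fun i => σ.apply_symm_apply _⟩
  have hf : sympForm m F (fun i => σ (y i)) (fun i => σ (v i)) = σ (sympForm m F y v) := by
    rw [sympForm_eq_sum, sympForm_eq_sum, map_sum]
    exact Finset.sum_congr rfl fun i _ => by rw [map_sub, map_mul, map_mul]
  rw [tv_smul, hf, show fieldSp σ (tv v t) • (fun i => σ (y i)) = (tv v t).1.map σ *ᵥ (fun i => σ (y i)) from rfl]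
  funext i
  calc ((tv v t).1.map σ *ᵥ fun i => σ (y i)) i = σ (((tv v t).1 *ᵥ y) i) :=
        (RingHom.map_mulVec σ.toRingHom _ _ i).symm
    _ = _ := by
        rw [show (tv v t).1 *ᵥ y = tv v t • y from rfl, tv_smul]
        simp [map_add, map_mul]

end CfsgLib.AutPSp
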