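import Mathlib
import Cfsg.Agent.Lib.AutPSp.Basic
import Cfsg.Agent.Lib.AutPSL.Root
import Cfsg.Agent.Lib.SympGeom.Basic
import Cfsg.Agent.Lib.Linear.SympSimple
import Cfsg.Agent.Lib.Linear.SympCard

/-!
Transvections in `PSp_{2m}(F)`, a Sylow subgroup in the defining characteristic and its centre.
-/

set_option autoImplicit false

namespace CfsgLib.AutPSp

open Matrix Cfsg
open scoped MatrixGroups
open CfsgLib.Linear.Symp
open CfsgLib.AutPSL (uniTri mem_uniTri)

variable {m : ℕ} {F : Type*} [Field F]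

/-- The class of a transvection. -/
def T (v : Fin m ⊕ Fin m → F) (c : F) : Cfsg.PSp m F := QuotientGroup.mk (tv v c)

theorem T_add (v : Fin m ⊕ Fin m → F) (c d : F) : T v c * T v d = T v (c + d) := by
  rw [T, T, ← QuotientGroup.mk_mul, tv_add]; rfl

theorem T_zero (v : Fin m ⊕ Fin m → F) : T v 0 = 1 := by rw [T, tv_zero]; rfl

theorem T_smul_vec (a : F) (v : Fin m ⊕ Fin m → F) (c : F) : T (a • v) c = T v (a * a * c) := by
  rw [T, T, tv_smul_vec]

theorem T_conj (g : Spg m F) (v : Fin m ⊕ Fin m → F) (c : F) :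
    (QuotientGroup.mk g : Cfsg.PSp m F) * T v c * (QuotientGroup.mk g)⁻¹ = T (g • v) c := by
  rw [T, T, ← tv_conj, QuotientGroup.mk_mul, QuotientGroup.mk_mul, QuotientGroup.mk_inv]

theorem form_smul_vec {v w : Fin m ⊕ Fin m → F} {a : F} (h : v = a • w) : sympForm m F v w = 0 := by
  rw [h, form_smul_left, form_self, mul_zero]

theorem tv_eq_tv {v w : Fin m ⊕ Fin m → F} {c d : F} (hv : v ≠ 0) (hc : c ≠ 0) (h : tv v c = tv w d) :
    ∃ a : F, a ≠ 0 ∧ w ≠ 0 ∧ v = a • w ∧ d = a * a * c := by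
  obtain ⟨x, hx⟩ := exists_form_ne_zero hv
  have hx' : sympForm m F x v ≠ 0 := fun h0 => hx (by rw [form_swap, h0, neg_zero])
  have h1 := congrArg (fun t => t • x) h
  simp only [tv_smul, add_right_inj] at h1
  have hne : c * sympForm m F x v ≠ 0 := mul_ne_zero hc hx'
  have hd : d * sympForm m F x w ≠ 0 := fun h0 => by
    rw [h0, zero_smul, smul_eq_zero] at h1
    exact h1.elim hne hv
  set a := (c * sympForm m F x v)⁻¹ * (d * sympForm m F x w) with ha
  have hva : v = a • w := by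
    rw [ha, ← smul_smul, ← h1, smul_smul, inv_mul_cancel₀ hne, one_smul]
  have ha0 : a ≠ 0 := mul_ne_zero (inv_ne_zero hne) hd
  have hw : w ≠ 0 := fun h0 => hv (by rw [hva, h0, smul_zero])
  refine ⟨a, ha0, hw, hva, ?_⟩
  have hw' : sympForm m F x w ≠ 0 := fun h0 => hd (by rw [h0, mul_zero])
  have h2 : a * (c * sympForm m F x v) = d * sympForm m F x w := by
    rw [ha, mul_comm, ← mul_assoc, mul_inv_cancel₀ hne, one_mul]
  rw [hva, form_smul_right] at h2
  exact mul_right_cancel₀ hw' (by linear_combination -h2)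

section Char

variable (p : ℕ) [Fact p.Prime] [CharP F p]

theorem center_eq_one_of_pow {z : Spg m F} (hz : z ∈ Subgroup.center (Spg m F)) {k : ℕ}
    (h : z ^ (p ^ k) = 1) : z = 1 := by
  obtain ⟨a, -, ha⟩ := CfsgLib.Linear.Symp.mem_center_iff.mp hz
  refine group_ext fun x => ?_
  rw [one_smul]
  by_cases hx : x = 0
  · rw [hx, smul_zero]
  have hpow : ∀ j : ℕ, (z ^ j) • x = a ^ j • x := by
    intro j
    induction j with
    | zero => simp
    | succ j ih => rw [pow_succ', mul_smul, ih, ha, smul_smul, pow_succ']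
  have h1 : a ^ (p ^ k) = 1 := by
    have h2 := hpow (p ^ k)
    rw [h, one_smul] at h2
    by_contra hne
    have h3 : (a ^ p ^ k - 1) • x = 0 := by rw [sub_smul, ← h2, one_smul, sub_self]
    exact hx ((smul_eq_zero.mp h3).resolve_left (sub_ne_zero.mpr hne))
  rw [ha, CfsgLib.AutPSL.eq_one_of_pow_prime_pow p h1, one_smul]

theorem eq_of_mk_eq {A B : Spg m F} {k : ℕ} (hA : A ^ (p ^ k) = 1) (hB : B ^ (p ^ k) = 1)
    (h : (QuotientGroup.mk A : Cfsg.PSp m F) = QuotientGroup.mk B) : A = B := by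
  have hz : A⁻¹ * B ∈ Subgroup.center (Spg m F) := QuotientGroup.eq.mp h
  have hcomm : Commute A⁻¹ B := by
    have hc := Subgroup.mem_center_iff.mp hz A
    show A⁻¹ * B = B * A⁻¹
    rw [← mul_assoc, mul_inv_cancel, one_mul] at hc
    calc A⁻¹ * B = (A⁻¹ * B * A) * A⁻¹ := by group
      _ = B * A⁻¹ := by rw [← hc]
  have : A⁻¹ * B = 1 := center_eq_one_of_pow p hz (k := k) (by
    rw [hcomm.mul_pow, inv_pow, hA, hB]; simp)
  exact inv_mul_eq_one.mp this

omit [Fact p.Prime] in
theorem tv_pow_eq_one (v : Fin m ⊕ Fin m → F) (c : F) : tv v c ^ p = 1 := by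
  rw [tv_pow, CharP.cast_eq_zero, zero_mul, tv_zero]

omit [Fact p.Prime] [CharP F p] in
theorem comm_of_form_eq_zero {v w : Fin m ⊕ Fin m → F} (h : sympForm m F v w = 0) (c d : F) :
    Commute (T v c) (T w d) := congrArg QuotientGroup.mk (tv_commute h c d)

include p in
theorem form_eq_zero_of_comm {v w : Fin m ⊕ Fin m → F} (hv : v ≠ 0) (hw : w ≠ 0) {c d : F} (hc : c ≠ 0)
    (hd : d ≠ 0) (h : Commute (T v c) (T w d)) : sympForm m F v w = 0 := by
  have h1 : T (tv v c • w) d = T w d := by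
    rw [← T_conj]
    exact mul_inv_eq_iff_eq_mul.mpr h
  have h2 := eq_of_mk_eq p (k := 1) (by rw [pow_one]; exact tv_pow_eq_one p _ _)
    (by rw [pow_one]; exact tv_pow_eq_one p _ _) h1
  obtain ⟨a, -, -, ha, -⟩ := tv_eq_tv ((smul_ne_zero_iff_ne _).2 hw) hd h2
  rw [tv_smul] at ha
  by_contra hne
  have hwv : sympForm m F w v ≠ 0 := fun h0 => hne (by rw [form_swap, h0, neg_zero])
  have h3 := congrArg (fun z => sympForm m F v z) ha
  simp only [form_add_right, form_smul_right, form_self, mul_zero, add_zero] at h3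
  have ha1 : a = 1 := mul_right_cancel₀ hne (by rw [← h3, one_mul])
  rw [ha1, one_smul, add_eq_left, smul_eq_zero] at ha
  exact ha.elim (mul_ne_zero hc hwv) hv

include p in
theorem T_inj {v : Fin m ⊕ Fin m → F} (hv : v ≠ 0) : Function.Injective (T v : F → Cfsg.PSp m F) := by
  intro c d h
  have h2 := eq_of_mk_eq p (k := 1) (by rw [pow_one]; exact tv_pow_eq_one p _ _)
    (by rw [pow_one]; exact tv_pow_eq_one p _ _) h
  obtain ⟨x, hx⟩ := exists_form_ne_zero hv
  have hx' : sympForm m F x v ≠ 0 := fun h0 => hx (by rw [form_swap, h0, neg_zero])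
  have h1 := congrArg (fun t => t • x) h2
  simp only [tv_smul, add_right_inj] at h1
  have h3 : ((c - d) * sympForm m F x v) • v = 0 := by rw [sub_mul, sub_smul, h1, sub_self]
  exact sub_eq_zero.mp (((mul_eq_zero.mp ((smul_eq_zero.mp h3).resolve_right hv))).resolve_right hx')

include p in
theorem T_eq_T {v w : Fin m ⊕ Fin m → F} {c d : F} (hv : v ≠ 0) (hc : c ≠ 0) (h : T v c = T w d) :
    ∃ a : F, a ≠ 0 ∧ w ≠ 0 ∧ v = a • w ∧ d = a * a * c :=
  tv_eq_tv hv hc (eq_of_mk_eq p (k := 1) (by rw [pow_one]; exact tv_pow_eq_one p _ _)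
    (by rw [pow_one]; exact tv_pow_eq_one p _ _) h)

end Char

/-! ### The unipotent radical of a Borel subgroup -/

/-- The block matrix `[[A, B], [0, D]]` condition. -/
def IsUni (g : Mat m F) : Prop :=
  g.toBlocks₂₁ = 0 ∧ g.toBlocks₁₁.BlockTriangular id ∧ ∀ i, g.toBlocks₁₁ i i = 1

theorem toBlocks_mul₁₁ (s t : Mat m F) (ht : t.toBlocks₂₁ = 0) :
    (s * t).toBlocks₁₁ = s.toBlocks₁₁ * t.toBlocks₁₁ := by
  conv_lhs => rw [← Matrix.fromBlocks_toBlocks s, ← Matrix.fromBlocks_toBlocks t, Matrix.fromBlocks_multiply,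
    Matrix.toBlocks_fromBlocks₁₁, ht, Matrix.mul_zero, add_zero]

theorem toBlocks_mul₂₁ (s t : Mat m F) (hs : s.toBlocks₂₁ = 0) (ht : t.toBlocks₂₁ = 0) :
    (s * t).toBlocks₂₁ = 0 := by
  conv_lhs => rw [← Matrix.fromBlocks_toBlocks s, ← Matrix.fromBlocks_toBlocks t, Matrix.fromBlocks_multiply,
    Matrix.toBlocks_fromBlocks₂₁, hs, ht, Matrix.zero_mul, Matrix.mul_zero, add_zero]

/-- The upper unitriangular subgroup of `Sp_{2m}` over a finite field. -/
def uniSp (m : ℕ) (F : Type*) [Field F] [Finite F] : Subgroup (Spg m F) :=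
  let M : Submonoid (Spg m F) :=
    { carrier := {s | IsUni s.1}
      one_mem' := by
        show IsUni (1 : Mat m F)
        rw [← Matrix.fromBlocks_one]
        refine ⟨Matrix.toBlocks_fromBlocks₂₁ _ _ _ _, ?_, fun i => ?_⟩
        · rw [Matrix.toBlocks_fromBlocks₁₁]; exact Matrix.blockTriangular_one
        · rw [Matrix.toBlocks_fromBlocks₁₁, Matrix.one_apply_eq]
      mul_mem' := fun {s t} hs ht => by
        show IsUni (s.1 * t.1)
        refine ⟨toBlocks_mul₂₁ _ _ hs.1 ht.1, ?_, fun i => ?_⟩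
        · rw [toBlocks_mul₁₁ _ _ ht.1]; exact hs.2.1.mul ht.2.1
        · rw [toBlocks_mul₁₁ _ _ ht.1, Matrix.mul_apply, Finset.sum_eq_single i]
          · rw [hs.2.2, ht.2.2, one_mul]
          · intro k _ hk
            rcases lt_or_gt_of_ne hk with h | h
            · rw [hs.2.1 (show id k < id i from h), zero_mul]
            · rw [ht.2.1 (show id i < id k from h), mul_zero]
          · simp }
  { M with
    inv_mem' := fun {s} hs => by
      show s⁻¹ ∈ M
      have hs' : s ∈ M := hs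
      rw [show s⁻¹ = s ^ (orderOf s - 1) by
        rw [inv_eq_iff_mul_eq_one, ← pow_succ', Nat.sub_add_cancel (orderOf_pos s), pow_orderOf_eq_one]]
      exact pow_mem hs' _ }

section Finite

variable [Finite F]

theorem mem_uniSp {s : Spg m F} : s ∈ uniSp m F ↔ IsUni s.1 := Iff.rfl

theorem uni_blocks {s : Spg m F} (hs : s ∈ uniSp m F) :
    s.1 = Matrix.fromBlocks s.1.toBlocks₁₁ s.1.toBlocks₁₂ 0 s.1.toBlocks₂₂ := by
  conv_lhs => rw [← Matrix.fromBlocks_toBlocks s.1, (mem_uniSp.mp hs).1]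

theorem uni_symp {s : Spg m F} (hs : s ∈ uniSp m F) :
    s.1.toBlocks₁₁ᵀ * s.1.toBlocks₂₂ = 1 ∧
      s.1.toBlocks₁₂ᵀ * s.1.toBlocks₂₂ = s.1.toBlocks₂₂ᵀ * s.1.toBlocks₁₂ := by
  have h := SymplecticGroup.mem_iff'.mp s.2
  rw [uni_blocks hs, Matrix.J, Matrix.fromBlocks_transpose, Matrix.fromBlocks_multiply, Matrix.fromBlocks_multiply,
    Matrix.fromBlocks_inj] at h
  simp only [Matrix.transpose_zero, Matrix.mul_zero, Matrix.mul_one, Matrix.zero_mul, Matrix.mul_neg,
    Matrix.neg_mul, add_zero, zero_add] at h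
  obtain ⟨-, h12, -, h22⟩ := h
  refine ⟨neg_injective h12, ?_⟩
  rw [← sub_eq_add_neg, sub_eq_zero] at h22
  exact h22.symm

/-- The top-left block, as an element of the unitriangular group of `SL_m`. -/
def uniToSL : ↥(uniSp m F) →* ↥(uniTri m F) where
  toFun s := ⟨⟨s.1.1.toBlocks₁₁, by
      rw [Matrix.det_of_isUpperTriangular (M := s.1.1.toBlocks₁₁) (mem_uniSp.mp s.2).2.1]
      exact Finset.prod_eq_one fun i _ => (mem_uniSp.mp s.2).2.2 i⟩, (mem_uniSp.mp s.2).2⟩
  map_one' := by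
    refine Subtype.ext (Subtype.ext ?_)
    show (1 : Mat m F).toBlocks₁₁ = 1
    rw [← Matrix.fromBlocks_one, Matrix.toBlocks_fromBlocks₁₁]
  map_mul' s t := Subtype.ext (Subtype.ext (toBlocks_mul₁₁ _ _ (mem_uniSp.mp t.2).1))

/-- `[[1, S], [0, 1]]`. -/
def radical (S : Matrix (Fin m) (Fin m) F) (hS : Sᵀ = S) : Spg m F :=
  ⟨Matrix.fromBlocks 1 S 0 1, by
    rw [SymplecticGroup.mem_iff']
    simp [Matrix.J, Matrix.fromBlocks_transpose, Matrix.fromBlocks_multiply, hS]⟩

omit [Finite F] in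
theorem radical_coe (S : Matrix (Fin m) (Fin m) F) (hS : Sᵀ = S) :
    (radical S hS).1 = Matrix.fromBlocks 1 S 0 1 := rfl

/-- `[[A, 0], [0, A^{-t}]]`. -/
def levi (A : Matrix.SpecialLinearGroup (Fin m) F) : Spg m F :=
  ⟨Matrix.fromBlocks A.1 0 0 ((A⁻¹).1)ᵀ, by
    rw [SymplecticGroup.mem_iff']
    have h1 : A.1ᵀ * ((A⁻¹).1)ᵀ = 1 := by
      rw [← Matrix.transpose_mul, ← Matrix.SpecialLinearGroup.coe_mul, inv_mul_cancel,
        Matrix.SpecialLinearGroup.coe_one, Matrix.transpose_one]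
    have h2 : (A⁻¹).1 * A.1 = 1 := by
      rw [← Matrix.SpecialLinearGroup.coe_mul, inv_mul_cancel, Matrix.SpecialLinearGroup.coe_one]
    simp only [Matrix.J, Matrix.fromBlocks_transpose, Matrix.fromBlocks_multiply, Matrix.transpose_transpose,
      Matrix.transpose_zero, Matrix.mul_zero, Matrix.zero_mul, Matrix.mul_one, Matrix.mul_neg, Matrix.neg_mul,
      add_zero, zero_add, h1, h2, neg_zero]⟩

omit [Finite F] in
theorem levi_coe (A : Matrix.SpecialLinearGroup (Fin m) F) :
    (levi A).1 = Matrix.fromBlocks A.1 0 0 ((A⁻¹).1)ᵀ := rfl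

theorem radical_mem (S : Matrix (Fin m) (Fin m) F) (hS : Sᵀ = S) : radical S hS ∈ uniSp m F := by
  rw [mem_uniSp, radical_coe]
  refine ⟨Matrix.toBlocks_fromBlocks₂₁ _ _ _ _, ?_, fun i => ?_⟩
  · rw [Matrix.toBlocks_fromBlocks₁₁]; exact Matrix.blockTriangular_one
  · rw [Matrix.toBlocks_fromBlocks₁₁, Matrix.one_apply_eq]

theorem levi_mem {A : Matrix.SpecialLinearGroup (Fin m) F} (hA : A ∈ uniTri m F) : levi A ∈ uniSp m F := by
  rw [mem_uniSp, levi_coe]
  refine ⟨Matrix.toBlocks_fromBlocks₂₁ _ _ _ _, ?_, fun i => ?_⟩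
  · rw [Matrix.toBlocks_fromBlocks₁₁]; exact (mem_uniTri.mp hA).1
  · rw [Matrix.toBlocks_fromBlocks₁₁]; exact (mem_uniTri.mp hA).2 i

/-- Coordinates in the unitriangular group. -/
def uniCoord (f : Fin m → Fin m → F) : Spg m F :=
  let A : Matrix (Fin m) (Fin m) F := Matrix.of fun i j => if i < j then f i j else if i = j then 1 else 0
  levi ⟨A, by
      rw [Matrix.det_of_isUpperTriangular (M := A) fun a b hab => by
        have h1 : ¬ a < b := not_lt.mpr (le_of_lt hab)
        simp [A, h1, ne_of_gt (show b < a from hab)]]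
      exact Finset.prod_eq_one fun i _ => by simp [A]⟩ *
    radical (Matrix.of fun i j => f (max i j) (min i j)) (by ext i j; simp [max_comm, min_comm])

theorem uniCoord_mem (f : Fin m → Fin m → F) : uniCoord f ∈ uniSp m F := by
  refine mul_mem (levi_mem (mem_uniTri.mpr ⟨fun a b hab => ?_, fun i => ?_⟩)) (radical_mem _ _)
  · have h1 : ¬ a < b := not_lt.mpr (le_of_lt hab)
    simp [h1, ne_of_gt (show b < a from hab)]
  · simp

omit [Finite F] in
theorem uniCoord_injective : Function.Injective (uniCoord (m := m) (F := F)) := by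
  intro f g h
  have h1 := congrArg Subtype.val h
  simp only [uniCoord, levi, radical, Submonoid.mk_mul_mk, Matrix.fromBlocks_multiply, Matrix.fromBlocks_inj] at h1
  simp only [Matrix.mul_one, Matrix.mul_zero, Matrix.zero_mul, add_zero, zero_add] at h1
  obtain ⟨hA, hAS, -, -⟩ := h1
  have hS : Matrix.of (fun i j => f (max i j) (min i j)) = Matrix.of (fun i j => g (max i j) (min i j)) := by
    rw [hA] at hAS
    have hu : IsUnit (Matrix.of fun i j : Fin m => if i < j then g i j else if i = j then (1 : F) else 0) := by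
      rw [Matrix.isUnit_iff_isUnit_det, Matrix.det_of_isUpperTriangular fun a b hab => by
        have h1 : ¬ a < b := not_lt.mpr (le_of_lt hab)
        simp [h1, ne_of_gt (show b < a from hab)]]
      simp
    exact hu.mul_left_cancel hAS
  funext i j
  rcases lt_or_ge i j with hij | hij
  · have := congrFun (congrFun hA i) j
    simpa [hij] using this
  · have := congrFun (congrFun hS i) j
    simpa [max_eq_left hij, min_eq_right hij] using this

end Finite

section Fintype

variable [Fintype F] (p : ℕ) [Fact p.Prime] [CharP F p]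

theorem isPGroup_uniSp : IsPGroup p ↥(uniSp m F) := by
  intro s
  obtain ⟨k, hk⟩ := CfsgLib.AutPSL.isPGroup_uniTri (F := F) (n := m) p (uniToSL s)
  refine ⟨k + 1, ?_⟩
  rw [pow_succ, pow_mul]
  set t := s ^ p ^ k with ht
  have hA : t.1.1.toBlocks₁₁ = 1 := by
    have h1 : uniToSL t = 1 := by rw [ht, map_pow, hk]
    exact congrArg (fun x : ↥(uniTri m F) => x.1.1) h1
  have hD : t.1.1.toBlocks₂₂ = 1 := by
    have h1 := (uni_symp t.2).1
    rwa [hA, Matrix.transpose_one, Matrix.one_mul] at h1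
  have hb := uni_blocks t.2
  rw [hA, hD] at hb
  refine Subtype.ext (Subtype.ext ?_)
  show (t.1 ^ p).1 = 1
  rw [SubmonoidClass.coe_pow, hb]
  have : ∀ j : ℕ, (Matrix.fromBlocks 1 t.1.1.toBlocks₁₂ 0 1 : Mat m F) ^ j =
      Matrix.fromBlocks 1 ((j : F) • t.1.1.toBlocks₁₂) 0 1 := by
    intro j
    induction j with
    | zero => simp [Matrix.fromBlocks_one]
    | succ j ih =>
      rw [pow_succ, ih, Matrix.fromBlocks_multiply]
      simp only [Matrix.mul_zero, Matrix.zero_mul, Matrix.mul_one, Matrix.one_mul, add_zero, zero_add, Nat.cast_succ,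
        add_smul, one_smul]
      rw [add_comm (t.1.1.toBlocks₁₂)]
  rw [this, CharP.cast_eq_zero, zero_smul, Matrix.fromBlocks_one]

omit [Fact p.Prime] [CharP F p] in
theorem pow_le_card_uniSp : Fintype.card F ^ (m ^ 2) ≤ Nat.card ↥(uniSp m F) := by
  have h := Nat.card_le_card_of_injective (fun f : Fin m → Fin m → F => (⟨uniCoord f, uniCoord_mem f⟩ : ↥(uniSp m F)))
    fun f g h => uniCoord_injective (congrArg Subtype.val h)
  rw [Nat.card_fun, Nat.card_fun, Nat.card_fin, ← pow_mul, Nat.card_eq_fintype_card] at h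
  rwa [pow_two]

/-- The image in `PSp`. -/
def uniPSp (m : ℕ) (F : Type*) [Field F] [Finite F] : Subgroup (Cfsg.PSp m F) :=
  (uniSp m F).map (QuotientGroup.mk' _)

include p in
theorem uni_pow_eq_one {s : Spg m F} (hs : s ∈ uniSp m F) : ∃ k, s ^ (p ^ k) = 1 := by
  obtain ⟨k, hk⟩ := isPGroup_uniSp (F := F) (m := m) p ⟨s, hs⟩
  exact ⟨k, congrArg Subtype.val hk⟩

include p in
theorem mk_injOn_uni {s t : Spg m F} (hs : s ∈ uniSp m F) (ht : t ∈ uniSp m F)
    (h : (QuotientGroup.mk s : Cfsg.PSp m F) = QuotientGroup.mk t) : s = t := by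
  obtain ⟨k1, hk1⟩ := uni_pow_eq_one p hs
  obtain ⟨k2, hk2⟩ := uni_pow_eq_one p ht
  exact eq_of_mk_eq p (k := k1 + k2) (by rw [pow_add, pow_mul, hk1, one_pow])
    (by rw [pow_add, mul_comm, pow_mul, hk2, one_pow]) h

theorem not_dvd_index_uniPSp : ¬ p ∣ (uniPSp m F).index := by
  have hp : p.Prime := Fact.out
  have hcard : Nat.card ↥(uniPSp m F) = Nat.card ↥(uniSp m F) := by
    refine (Nat.card_congr (Equiv.ofBijective
      (fun s : ↥(uniSp m F) => (⟨QuotientGroup.mk' _ s.1, Subgroup.mem_map_of_mem _ s.2⟩ : ↥(uniPSp m F)))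
      ⟨fun s t h => Subtype.ext (mk_injOn_uni p s.2 t.2 (congrArg Subtype.val h)), ?_⟩)).symm
    rintro ⟨x, s, hs, rfl⟩
    exact ⟨⟨s, hs⟩, rfl⟩
  obtain ⟨k, hk⟩ := IsPGroup.iff_card.mp (isPGroup_uniSp (F := F) (m := m) p)
  obtain ⟨f, _, hf⟩ := FiniteField.card F p
  set P := ∏ k ∈ Finset.range m, (Fintype.card F ^ (2 * (k + 1)) - 1)
  have hP : ¬ p ∣ P := by
    intro hdvd
    obtain ⟨j, _, hj⟩ := (Prime.dvd_finset_prod_iff hp.prime _).mp hdvd
    have hq : p ∣ Fintype.card F ^ (2 * (j + 1)) :=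
      dvd_pow (by rw [hf]; exact dvd_pow_self p f.pos.ne') (by omega)
    have hle : 1 ≤ Fintype.card F ^ (2 * (j + 1)) := Nat.one_le_pow _ _ Fintype.card_pos
    have := Nat.dvd_sub hq hj
    rw [Nat.sub_sub_self hle] at this
    exact hp.one_lt.ne' (Nat.dvd_one.mp this)
  have h1 : Nat.card (Cfsg.PSp m F) ∣ Fintype.card F ^ (m ^ 2) * P :=
    (Subgroup.card_quotient_dvd_card _).trans (card_symplectic (F := F) (m := m)).dvd
  rw [← Subgroup.card_mul_index (uniPSp m F), hcard] at h1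
  have h2 : Nat.card ↥(uniSp m F) = Fintype.card F ^ (m ^ 2) := by
    refine le_antisymm (Nat.le_of_dvd (pow_pos Fintype.card_pos _) ?_) pow_le_card_uniSp
    refine Nat.Coprime.dvd_of_dvd_mul_right ?_ ((Dvd.intro _ rfl).trans h1)
    rw [hk]
    exact Nat.Coprime.pow_left _ ((Nat.Prime.coprime_iff_not_dvd hp).mpr hP)
  rw [h2] at h1
  exact fun hdvd => hP (hdvd.trans (Nat.dvd_of_mul_dvd_mul_left (pow_pos Fintype.card_pos _) h1))

/-- The unitriangular group as a Sylow subgroup of `PSp`. -/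
def uniSylow : Sylow p (Cfsg.PSp m F) :=
  ((isPGroup_uniSp (F := F) (m := m) p).map (QuotientGroup.mk' _)).toSylow (not_dvd_index_uniPSp p)

theorem coe_uniSylow : ((uniSylow p : Sylow p (Cfsg.PSp m F)) : Subgroup (Cfsg.PSp m F)) = uniPSp m F := rfl

omit [Fintype F] [Fact p.Prime] [CharP F p]

theorem apply_congr_single {A B : Matrix (Fin m) (Fin m) F} {k : Fin m}
    (h : A * Matrix.single k k 1 = Matrix.single k k 1 * B) (i : Fin m) (hi : i ≠ k) : A i k = 0 := by
  have := congrFun (congrFun h i) k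
  rwa [Matrix.mul_single_apply_same, Matrix.single_mul_apply_of_ne (h := hi), mul_one] at this

/-- The centre of the unitriangular group. -/
theorem central_uni [Finite F] {z : Spg m F} (hz : z ∈ uniSp m F) (hc : ∀ u ∈ uniSp m F, z * u = u * z) :
    ∃ S : Matrix (Fin m) (Fin m) F, ∃ hS : Sᵀ = S, z = radical S hS ∧
      (∀ i j : Fin m, 2 ≤ (i : ℕ) → S i j = 0) ∧ (∀ i : Fin m, (i : ℕ) = 1 → S i i = 0) ∧
      (∀ i j : Fin m, (i : ℕ) = 0 → (j : ℕ) = 1 → (2 : F) * S i j = 0) := by
  have hb := uni_blocks hz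
  obtain ⟨hAD, -⟩ := uni_symp hz
  obtain ⟨-, -, hdiag⟩ := mem_uniSp.mp hz
  set A := z.1.toBlocks₁₁
  set B := z.1.toBlocks₁₂
  set D := z.1.toBlocks₂₂
  have hrad : ∀ (S : Matrix (Fin m) (Fin m) F) (_ : Sᵀ = S), A * S = S * D := by
    intro S hS
    have h := congrArg Subtype.val (hc (radical S hS) (radical_mem S hS))
    rw [Submonoid.coe_mul, Submonoid.coe_mul, radical_coe, hb, Matrix.fromBlocks_multiply, Matrix.fromBlocks_multiply,
      Matrix.fromBlocks_inj] at h
    simp only [Matrix.mul_one, Matrix.one_mul, Matrix.zero_mul, add_zero] at h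
    obtain ⟨-, h12, -, -⟩ := h
    rw [add_comm] at h12
    exact add_left_cancel h12
  have hA : A = 1 := by
    ext i k
    by_cases hik : i = k
    · subst hik; rw [Matrix.one_apply_eq]; exact hdiag i
    · rw [Matrix.one_apply_ne hik]
      exact apply_congr_single (hrad (Matrix.single k k 1) (Matrix.transpose_single _ _ _)) i hik
  have hD : D = 1 := by rwa [hA, Matrix.transpose_one, Matrix.one_mul] at hAD
  rw [hA, hD] at hb
  have hsym : Bᵀ = B := by
    have h := SymplecticGroup.mem_iff'.mp z.2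
    rw [hb, Matrix.J, Matrix.fromBlocks_transpose, Matrix.fromBlocks_multiply, Matrix.fromBlocks_multiply,
      Matrix.fromBlocks_inj] at h
    simp only [Matrix.transpose_one, Matrix.mul_one, Matrix.one_mul, Matrix.mul_neg, Matrix.mul_zero,
      Matrix.neg_mul, add_zero, zero_add] at h
    exact (eq_of_sub_eq_zero (by rw [sub_eq_add_neg]; exact h.2.2.2)).symm
  have hlev : ∀ (k l : Fin m) (hkl : k < l) (j : Fin m), j ≠ k → B l j = 0 := by
    intro k l hkl j hj
    set A₁ : Matrix.SpecialLinearGroup (Fin m) F := Matrix.SpecialLinearGroup.transvection hkl.ne (1 : F)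
    have h := congrArg Subtype.val (hc (levi A₁) (levi_mem (CfsgLib.AutPSL.transvection_mem_uniTri hkl 1)))
    rw [Submonoid.coe_mul, Submonoid.coe_mul, levi_coe, hb, Matrix.fromBlocks_multiply, Matrix.fromBlocks_multiply,
      Matrix.fromBlocks_inj] at h
    simp only [Matrix.mul_one, Matrix.one_mul, Matrix.zero_mul, Matrix.mul_zero, add_zero, zero_add] at h
    obtain ⟨-, h12, -, -⟩ := h
    rw [Matrix.SpecialLinearGroup.transvection_inv, Matrix.SpecialLinearGroup.transvection_coe,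
      Matrix.SpecialLinearGroup.transvection_coe, Matrix.transpose_add, Matrix.transpose_one,
      Matrix.transpose_single, Matrix.mul_add, Matrix.mul_one, Matrix.add_mul, Matrix.one_mul, add_right_inj] at h12
    have h1 := congrFun (congrFun h12 k) j
    rw [Matrix.mul_single_apply_of_ne (hbj := hj), Matrix.single_mul_apply_same, one_mul] at h1
    exact h1.symm
  refine ⟨B, hsym, Subtype.ext hb, fun i j hi => ?_, fun i hi => ?_, fun i j hi hj => ?_⟩
  · by_cases hj : (j : ℕ) = 0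
    · exact hlev ⟨1, by omega⟩ i (by show 1 < (i : ℕ); omega) j (fun h => by rw [h] at hj; simp at hj)
    · exact hlev ⟨0, by omega⟩ i (by show 0 < (i : ℕ); omega) j (fun h => by rw [h] at hj; simp at hj)
  · exact hlev ⟨0, by omega⟩ i (by show 0 < (i : ℕ); omega) i (fun h => by rw [h] at hi; simp at hi)
  · have hij : i < j := by show (i : ℕ) < j; omega
    set A₁ : Matrix.SpecialLinearGroup (Fin m) F := Matrix.SpecialLinearGroup.transvection hij.ne (1 : F)
    have h := congrArg Subtype.val (hc (levi A₁) (levi_mem (CfsgLib.AutPSL.transvection_mem_uniTri hij 1)))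
    rw [Submonoid.coe_mul, Submonoid.coe_mul, levi_coe, hb, Matrix.fromBlocks_multiply, Matrix.fromBlocks_multiply,
      Matrix.fromBlocks_inj] at h
    simp only [Matrix.mul_one, Matrix.one_mul, Matrix.zero_mul, Matrix.mul_zero, add_zero, zero_add] at h
    obtain ⟨-, h12, -, -⟩ := h
    rw [Matrix.SpecialLinearGroup.transvection_inv, Matrix.SpecialLinearGroup.transvection_coe,
      Matrix.SpecialLinearGroup.transvection_coe, Matrix.transpose_add, Matrix.transpose_one,
      Matrix.transpose_single, Matrix.mul_add, Matrix.mul_one, Matrix.add_mul, Matrix.one_mul, add_right_inj] at h12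
    have h1 := congrFun (congrFun h12 i) i
    rw [Matrix.mul_single_apply_same, Matrix.single_mul_apply_same, one_mul] at h1
    have hs : B j i = B i j := congrFun (congrFun hsym i) j
    rw [hs] at h1
    linear_combination -h1

end Fintype

end CfsgLib.AutPSp
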