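import Mathlib
import Cfsg.Agent.Lib.AutPSp.Root

/-!
Every automorphism of `PSp_{2m}(F)` permutes the transvection groups, unless `m = 2` and the characteristic is two.
-/

set_option autoImplicit false

namespace CfsgLib.AutPSp

open Matrix Cfsg
open scoped MatrixGroups
open CfsgLib.Linear.Symp

variable {m : ℕ} {F : Type*} [Field F]

/-- Standard basis vector in the first Lagrangian. -/
abbrev eVec (i : Fin m) : Fin m ⊕ Fin m → F := Pi.single (Sum.inl i) 1

/-- Standard basis vector in the second Lagrangian. -/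
abbrev fVec (i : Fin m) : Fin m ⊕ Fin m → F := Pi.single (Sum.inr i) 1

theorem radical_smul (S : Matrix (Fin m) (Fin m) F) (hS : Sᵀ = S) (w : Fin m ⊕ Fin m → F) :
    radical S hS • w = w + Sum.elim (S *ᵥ fun i => w (Sum.inr i)) 0 := by
  show (radical S hS).1 *ᵥ w = _
  rw [radical_coe, Matrix.fromBlocks_mulVec]
  ext (i | i) <;> simp [Function.comp_def, add_comm]

/-- `w ↦ w + k f(w,x) y + k f(w,y) x`, in characteristic two. -/
def short (x y : Fin m ⊕ Fin m → F) (k : F) : Spg m F := tv (x + y) k * tv x k * tv y k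

theorem short_smul [CharP F 2] {x y : Fin m ⊕ Fin m → F} (h : sympForm m F x y = 0) (k : F)
    (w : Fin m ⊕ Fin m → F) :
    short x y k • w = w + (k * sympForm m F w x) • y + (k * sympForm m F w y) • x := by
  have h' : sympForm m F y x = 0 := by rw [form_swap, h, neg_zero]
  rw [short, mul_smul, mul_smul, tv_smul, tv_smul, tv_smul]
  simp only [form_add_left, form_add_right, form_smul_left, form_self, h, h', mul_zero, add_zero]
  have h2 : (2 : F) = 0 := CharTwo.two_eq_zero
  match_scalars <;> ring_nf <;> simp [h2]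

theorem short_conj (g : Spg m F) (x y : Fin m ⊕ Fin m → F) (k : F) :
    g * short x y k * g⁻¹ = short (g • x) (g • y) k := by
  rw [short, short, ← smul_add, ← tv_conj, ← tv_conj, ← tv_conj]
  group

theorem mem_uniSp_of_vec [Finite F] {g : Spg m F}
    (h1 : ∀ i j : Fin m, (g • eVec (F := F) j) (Sum.inr i) = 0)
    (h2 : ∀ i j : Fin m, j ≤ i → (g • eVec (F := F) j) (Sum.inl i) = if i = j then 1 else 0) :
    g ∈ uniSp m F := by
  have key : ∀ (a : Fin m ⊕ Fin m) (j : Fin m), g.1 a (Sum.inl j) = (g • eVec (F := F) j) a := fun a j => by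
    show _ = (g.1 *ᵥ Pi.single (Sum.inl j) 1) a
    rw [Matrix.mulVec_single_one]; rfl
  rw [mem_uniSp]
  refine ⟨?_, fun i j hij => ?_, fun i => ?_⟩
  · ext i j
    show g.1 (Sum.inr i) (Sum.inl j) = 0
    rw [key, h1]
  · show g.1 (Sum.inl i) (Sum.inl j) = 0
    rw [key, h2 i j (le_of_lt hij), if_neg (ne_of_gt (show j < i from hij))]
  · show g.1 (Sum.inl i) (Sum.inl i) = 1
    rw [key, h2 i i le_rfl, if_pos rfl]

theorem tv_eVec_eq_radical (i : Fin m) (c : F) :
    tv (eVec i) c = radical (Matrix.single i i c) (Matrix.transpose_single _ _ _) := by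
  refine group_ext fun w => ?_
  rw [tv_smul, radical_smul, form_single_inl]
  congr 1
  ext (j | j)
  · simp [Matrix.mulVec, dotProduct, Matrix.single_apply, Pi.single_apply, ite_and, eq_comm]
  · simp

/-- Any two conjugates generating a 2-group commute. -/
def Good {G : Type*} [Group G] (z : G) : Prop :=
  ∀ g : G, IsPGroup 2 ↥(Subgroup.closure {z, g * z * g⁻¹}) → Commute z (g * z * g⁻¹)

theorem Good.map {G G' : Type*} [Group G] [Group G'] {z : G} (h : Good z) (e : G ≃* G') : Good (e z) := by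
  intro g' hp
  obtain ⟨g, rfl⟩ := e.surjective g'
  rw [← map_inv, ← map_mul, ← map_mul] at hp ⊢
  refine (h g ?_).map e
  have h1 : Subgroup.closure ({e z, e (g * z * g⁻¹)} : Set G') =
      (Subgroup.closure ({z, g * z * g⁻¹} : Set G)).map e.toMonoidHom := by
    rw [MonoidHom.map_closure, Set.image_pair]; rfl
  rw [h1] at hp
  exact hp.of_equiv (e.subgroupMap _).symm

theorem not_good_of_pair {G : Type*} [Group G] {z a b : G} {P : Subgroup G} (hP : IsPGroup 2 ↥P)
    (h1 : a * z * a⁻¹ ∈ P) (h2 : b * z * b⁻¹ ∈ P) (hne : ¬ Commute (a * z * a⁻¹) (b * z * b⁻¹)) : ¬ Good z := by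
  intro hgood
  have hg := hgood.map (MulAut.conj a)
  rw [MulAut.conj_apply] at hg
  have e : b * a⁻¹ * (a * z * a⁻¹) * (b * a⁻¹)⁻¹ = b * z * b⁻¹ := by group
  have h3 := hg (b * a⁻¹)
  rw [e] at h3
  exact hne (h3 (hP.to_le ((Subgroup.closure_le _).mpr (Set.pair_subset h1 h2))))

section CharTwoSec

variable [CharP F 2]

theorem center_eq_one_two {z : Spg m F} (hz : z ∈ Subgroup.center (Spg m F)) : z = 1 := by
  obtain ⟨a, ha2, ha⟩ := CfsgLib.Linear.Symp.mem_center_iff.mp hz
  refine group_ext fun x => ?_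
  have h1 : a = 1 := CharTwo.sq_inj.mp (by rw [ha2, one_pow])
  rw [ha, h1, one_smul, one_smul]

theorem mk_inj_two {s t : Spg m F} (h : (QuotientGroup.mk s : Cfsg.PSp m F) = QuotientGroup.mk t) : s = t :=
  inv_mul_eq_one.mp (center_eq_one_two (QuotientGroup.eq.mp h))

theorem good_T {u : Fin m ⊕ Fin m → F} (hu : u ≠ 0) {a : F} (ha : a ≠ 0) : Good (T u a : Cfsg.PSp m F) := by
  intro g hp
  obtain ⟨g, rfl⟩ := QuotientGroup.mk_surjective g
  rw [T_conj] at hp ⊢
  generalize g • u = w at hp ⊢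
  by_cases h : sympForm m F u w = 0
  · exact comm_of_form_eq_zero h a a
  exfalso
  set k := sympForm m F u w with hk
  have hwu : sympForm m F w u = k := by rw [form_swap, CharTwo.neg_eq]
  obtain ⟨N, hN⟩ := hp ⟨T u a * T w a,
    mul_mem (Subgroup.subset_closure (by simp)) (Subgroup.subset_closure (by simp))⟩
  have hN' : (T u a * T w a : Cfsg.PSp m F) ^ (2 ^ N) = 1 := by simpa using congrArg Subtype.val hN
  rw [T, T, ← QuotientGroup.mk_mul, ← QuotientGroup.mk_pow] at hN'
  have hone : (tv u a * tv w a) ^ (2 ^ N) = 1 := mk_inj_two hN'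
  set A : Mat m F := (tv u a * tv w a).1
  let m₀ : Fin m := (Function.ne_iff.mp hu).choose.elim id id
  have : Nonempty (Fin m ⊕ Fin m) := ⟨Sum.inl m₀⟩
  have hnil : (A - 1) ^ (2 ^ N) = 0 := by
    rw [sub_pow_char_pow_of_commute _ _ (Commute.one_right A), one_pow, ← SubmonoidClass.coe_pow, hone]
    exact sub_self _
  have hker : ∀ α β : F, (A - 1) *ᵥ (α • u + β • w) = 0 → α = 0 ∧ β = 0 := by
    intro α β h0
    rw [Matrix.sub_mulVec, Matrix.one_mulVec, sub_eq_zero,
      show A *ᵥ (α • u + β • w) = (tv u a * tv w a) • (α • u + β • w) from rfl, mul_smul, tv_smul, tv_smul] at h0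
    simp only [form_add_left, form_smul_left, form_self, mul_zero, add_zero, zero_add, ← hk, hwu] at h0
    have hu' := congrArg (fun z => sympForm m F z w) h0
    have hw' := congrArg (fun z => sympForm m F z u) h0
    simp only [form_add_left, form_smul_left, form_self, mul_zero, add_zero, zero_add, ← hk, hwu] at hu' hw'
    have hα : α = 0 := by
      have : (a * k * k) * α = 0 := by linear_combination hw'
      exact (mul_eq_zero.mp this).resolve_left (mul_ne_zero (mul_ne_zero ha h) h)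
    refine ⟨hα, ?_⟩
    subst hα
    have : (a * k * k) * β = 0 := by linear_combination hu'
    exact (mul_eq_zero.mp this).resolve_left (mul_ne_zero (mul_ne_zero ha h) h)
  have hinv : ∀ α β : F, ∃ α' β' : F, (A - 1) *ᵥ (α • u + β • w) = α' • u + β' • w := by
    intro α β
    refine ⟨a * k * (β + a * (α * k)), a * (α * k), ?_⟩
    rw [Matrix.sub_mulVec, Matrix.one_mulVec,
      show A *ᵥ (α • u + β • w) = (tv u a * tv w a) • (α • u + β • w) from rfl, mul_smul, tv_smul, tv_smul]
    simp only [form_add_left, form_smul_left, form_self, mul_zero, add_zero, zero_add, ← hk, hwu]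
    module
  have hiter : ∀ j : ℕ, ∃ α β : F, (α ≠ 0 ∨ β ≠ 0) ∧ ((A - 1) ^ j) *ᵥ u = α • u + β • w := by
    intro j
    induction j with
    | zero => exact ⟨1, 0, Or.inl one_ne_zero, by simp⟩
    | succ j ih =>
      obtain ⟨α, β, hne, hj⟩ := ih
      obtain ⟨α', β', h'⟩ := hinv α β
      refine ⟨α', β', ?_, by rw [pow_succ', ← Matrix.mulVec_mulVec, hj, h']⟩
      by_contra hc
      push Not at hc
      rw [hc.1, hc.2, zero_smul, zero_smul, add_zero] at h'
      obtain ⟨r1, r2⟩ := hker α β h'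
      exact hne.elim (fun e => e r1) fun e => e r2
  obtain ⟨α, β, hne, hj⟩ := hiter (2 ^ N)
  rw [hnil, Matrix.zero_mulVec] at hj
  have h1 := congrArg (fun z => sympForm m F z w) hj
  have h2 := congrArg (fun z => sympForm m F z u) hj
  simp only [form_add_left, form_smul_left, form_self, form_zero_left, mul_zero, add_zero, zero_add, ← hk, hwu] at h1 h2
  exact hne.elim (fun e => mul_ne_zero e h h1.symm) fun e => mul_ne_zero e h h2.symm

variable [Fintype F]

theorem exists_pair_map {x y x' y' : Fin m ⊕ Fin m → F} (h : sympForm m F x y = 0) (h' : sympForm m F x' y' = 0)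
    (hi : ∀ a b : F, a • x + b • y = 0 → a = 0 ∧ b = 0) (hi' : ∀ a b : F, a • x' + b • y' = 0 → a = 0 ∧ b = 0) :
    ∃ g : Spg m F, g • x = x' ∧ g • y = y' := by
  have mk : ∀ (x y : Fin m ⊕ Fin m → F), sympForm m F x y = 0 →
      (∀ a b : F, a • x + b • y = 0 → a = 0 ∧ b = 0) →
      LinearIndependent F ![x, y] ∧ ∀ i j, sympForm m F (![x, y] i) (![x, y] j) = 0 := by
    intro x y h hi
    refine ⟨LinearIndependent.pair_iff.mpr hi, fun i j => ?_⟩
    have h' : sympForm m F y x = 0 := by rw [form_swap, h, neg_zero]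
    fin_cases i <;> fin_cases j <;> simp [form_self, h, h']
  obtain ⟨A, hA⟩ := CfsgLib.SympGeom.exists_map_isoTuple (k := 2) ⟨![x, y], mk x y h hi⟩ ⟨![x', y'], mk x' y' h' hi'⟩
  exact ⟨A, hA 0, hA 1⟩

theorem isPGroup_uniPSp : IsPGroup 2 ↥(uniPSp m F) :=
  (isPGroup_uniSp (F := F) (m := m) 2).map _

theorem not_good_short {i₀ i₁ i₂ : Fin m} (h01 : i₀ < i₁) (h12 : i₁ < i₂) {b : F} (hb : b ≠ 0) :
    ¬ Good (QuotientGroup.mk (short (eVec i₀) (eVec i₁) b) : Cfsg.PSp m F) := by
  have h02 : i₀ < i₂ := h01.trans h12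
  have hne01 := h01.ne
  have hne02 := h02.ne
  have hne12 := h12.ne
  obtain ⟨g₁, hg₁x, hg₁y⟩ := exists_pair_map (x := eVec (F := F) i₀) (y := eVec i₁) (x' := eVec i₀) (y' := eVec i₂)
    (by simp [form_single_inl]) (by simp [form_single_inl])
    (fun a b h => ⟨by simpa [hne01] using congrFun h (Sum.inl i₀), by simpa [hne01.symm] using congrFun h (Sum.inl i₁)⟩)
    (fun a b h => ⟨by simpa [hne02] using congrFun h (Sum.inl i₀), by simpa [hne02.symm] using congrFun h (Sum.inl i₂)⟩)
  obtain ⟨g₂, hg₂x, hg₂y⟩ := exists_pair_map (x := eVec (F := F) i₀) (y := eVec i₁) (x' := eVec i₁) (y' := fVec i₂)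
    (by simp [form_single_inl]) (by simp [form_single_inr, hne12.symm])
    (fun a b h => ⟨by simpa [hne01] using congrFun h (Sum.inl i₀), by simpa [hne01.symm] using congrFun h (Sum.inl i₁)⟩)
    (fun a b h => ⟨by simpa using congrFun h (Sum.inl i₁), by simpa using congrFun h (Sum.inr i₂)⟩)
  have f02 : sympForm m F (eVec i₀) (eVec i₂) = 0 := by simp [form_single_inl]
  have f12 : sympForm m F (eVec i₁) (fVec i₂) = 0 := by simp [form_single_inr, hne12.symm]
  have m1 : short (eVec (F := F) i₀) (eVec i₂) b ∈ uniSp m F := by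
    refine mem_uniSp_of_vec (fun i j => ?_) fun i j hij => ?_ <;> rw [short_smul f02] <;>
      simp [form_single_inl, Pi.single_apply]
  have m2 : short (eVec (F := F) i₁) (fVec i₂) b ∈ uniSp m F := by
    refine mem_uniSp_of_vec (fun i j => ?_) fun i j hij => ?_ <;> rw [short_smul f12]
    · by_cases hj : i₂ = j <;> simp [form_single_inl, form_single_inr, Pi.single_apply, hj]
    · simp only [Pi.add_apply, Pi.smul_apply, form_single_inl, form_single_inr, smul_eq_mul]
      simp only [Pi.single_apply, Sum.inl.injEq, reduceCtorEq, if_false, mul_zero, add_zero]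
      by_cases hj : j = i₂
      · subst hj
        have : i ≠ i₁ := ne_of_gt (lt_of_lt_of_le h12 hij)
        simp [this]
      · simp [Ne.symm hj]
  refine not_good_of_pair (a := QuotientGroup.mk g₁) (b := QuotientGroup.mk g₂) isPGroup_uniPSp ?_ ?_ ?_
  · rw [← QuotientGroup.mk_inv, ← QuotientGroup.mk_mul, ← QuotientGroup.mk_mul, short_conj, hg₁x, hg₁y]
    exact Subgroup.mem_map_of_mem _ m1
  · rw [← QuotientGroup.mk_inv, ← QuotientGroup.mk_mul, ← QuotientGroup.mk_mul, short_conj, hg₂x, hg₂y]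
    exact Subgroup.mem_map_of_mem _ m2
  · simp only [← QuotientGroup.mk_inv, ← QuotientGroup.mk_mul, short_conj, hg₁x, hg₁y, hg₂x, hg₂y]
    intro hc
    have h3 := mk_inj_two (s := short (eVec i₀) (eVec i₂) b * short (eVec i₁) (fVec i₂) b)
      (t := short (eVec i₁) (fVec i₂) b * short (eVec i₀) (eVec i₂) b) hc
    have h4 := congrFun (congrArg (fun g => g • fVec (F := F) i₁) h3) (Sum.inl i₀)
    simp [mul_smul, short_smul f02, short_smul f12, form_single_inl, form_single_inr, form_add_left,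
      form_smul_left, hne01, hne02, hne12, hne01.symm, hne02.symm, hne12.symm, hb] at h4

theorem not_good_mixed {i₀ i₁ : Fin m} (h01 : i₀ < i₁) {a b : F} (ha : a ≠ 0) (hb : b ≠ 0) :
    ¬ Good (QuotientGroup.mk (tv (eVec i₀) a * short (eVec i₀) (eVec i₁) b) : Cfsg.PSp m F) := by
  have hne01 := h01.ne
  have hc0 : b * b / a ≠ 0 := div_ne_zero (mul_ne_zero hb hb) ha
  have f01 : sympForm m F (eVec i₀) (eVec (F := F) i₁) = 0 := by simp [form_single_inl]
  have hz : tv (eVec (F := F) i₀) a * short (eVec i₀) (eVec i₁) b =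
      tv (eVec i₀ + (b / a) • eVec i₁) a * tv (eVec i₁) (b * b / a) := by
    refine group_ext fun w => ?_
    simp only [mul_smul, tv_smul, short_smul f01, form_add_left, form_add_right, form_smul_left, form_smul_right,
      form_self, f01, form_swap (eVec i₀) (eVec i₁), neg_zero, mul_zero, add_zero]
    have h2 : (2 : F) = 0 := CharTwo.two_eq_zero
    match_scalars <;> field_simp <;> ring_nf <;> simp [h2]
  rw [hz]
  obtain ⟨g₁, hg₁x, hg₁y⟩ := exists_pair_map (x := eVec (F := F) i₀ + (b / a) • eVec i₁) (y := eVec i₁)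
    (x' := eVec i₀) (y' := eVec i₁)
    (by simp [form_single_inl]) f01
    (fun c d h => by
      have h1 : c = 0 := by simpa [hne01] using congrFun h (Sum.inl i₀)
      exact ⟨h1, by simpa [hne01.symm, h1] using congrFun h (Sum.inl i₁)⟩)
    (fun a b h => ⟨by simpa [hne01] using congrFun h (Sum.inl i₀), by simpa [hne01.symm] using congrFun h (Sum.inl i₁)⟩)
  obtain ⟨g₂, hg₂x, hg₂y⟩ := exists_pair_map (x := eVec (F := F) i₀ + (b / a) • eVec i₁) (y := eVec i₁)
    (x' := eVec i₀ + (b / a) • fVec i₁) (y' := fVec i₁)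
    (by simp [form_single_inl]) (by simp [form_single_inr, hne01.symm, form_add_left, form_smul_left])
    (fun c d h => by
      have h1 : c = 0 := by simpa [hne01] using congrFun h (Sum.inl i₀)
      exact ⟨h1, by simpa [hne01.symm, h1] using congrFun h (Sum.inl i₁)⟩)
    (fun c d h => by
      have h1 : c = 0 := by simpa [hne01] using congrFun h (Sum.inl i₀)
      exact ⟨h1, by simpa [hne01.symm, h1] using congrFun h (Sum.inr i₁)⟩)
  have m1 : tv (eVec (F := F) i₀) a * tv (eVec i₁) (b * b / a) ∈ uniSp m F := by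
    refine mem_uniSp_of_vec (fun i j => ?_) fun i j hij => ?_ <;>
      simp [mul_smul, tv_smul, form_single_inl, Pi.single_apply]
  have m2 : tv (eVec i₀ + (b / a) • fVec i₁) a * tv (fVec (F := F) i₁) (b * b / a) ∈ uniSp m F := by
    have h2 : (2 : F) = 0 := CharTwo.two_eq_zero
    refine mem_uniSp_of_vec (fun i j => ?_) fun i j hij => ?_ <;>
      simp only [mul_smul, tv_smul, form_add_left, form_add_right, form_smul_left, form_smul_right, form_single_inl,
        form_single_inr, Pi.add_apply, Pi.smul_apply, smul_eq_mul] <;>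
      simp only [Pi.single_apply, Sum.inl.injEq, Sum.inr.injEq, reduceCtorEq, if_false, mul_zero, add_zero, zero_add]
    · by_cases hj : j = i₁
      · subst hj
        by_cases hi : i = j <;> simp [hi, CharTwo.neg_eq, hne01] <;> field_simp <;> ring_nf <;> simp [h2]
      · simp [Ne.symm hj]
    · by_cases hj : j = i₁
      · subst hj
        have : i ≠ i₀ := ne_of_gt (lt_of_lt_of_le h01 hij)
        simp [this]
      · simp [Ne.symm hj]
  refine not_good_of_pair (a := QuotientGroup.mk g₁) (b := QuotientGroup.mk g₂) isPGroup_uniPSp ?_ ?_ ?_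
  · rw [← QuotientGroup.mk_inv, ← QuotientGroup.mk_mul, ← QuotientGroup.mk_mul, ← mul_assoc,
      show g₁ * tv (eVec i₀ + (b / a) • eVec i₁) a * tv (eVec i₁) (b * b / a) * g₁⁻¹ =
        (g₁ * tv (eVec i₀ + (b / a) • eVec i₁) a * g₁⁻¹) * (g₁ * tv (eVec i₁) (b * b / a) * g₁⁻¹) by group,
      tv_conj, tv_conj, hg₁x, hg₁y]
    exact Subgroup.mem_map_of_mem _ m1
  · rw [← QuotientGroup.mk_inv, ← QuotientGroup.mk_mul, ← QuotientGroup.mk_mul, ← mul_assoc,
      show g₂ * tv (eVec i₀ + (b / a) • eVec i₁) a * tv (eVec i₁) (b * b / a) * g₂⁻¹ =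
        (g₂ * tv (eVec i₀ + (b / a) • eVec i₁) a * g₂⁻¹) * (g₂ * tv (eVec i₁) (b * b / a) * g₂⁻¹) by group,
      tv_conj, tv_conj, hg₂x, hg₂y]
    exact Subgroup.mem_map_of_mem _ m2
  · intro hc
    simp only [← QuotientGroup.mk_inv, ← QuotientGroup.mk_mul] at hc
    have h3 := mk_inj_two (show (QuotientGroup.mk _ : Cfsg.PSp m F) = QuotientGroup.mk _ from hc)
    have e : ∀ g : Spg m F, g * (tv (eVec i₀ + (b / a) • eVec i₁) a * tv (eVec i₁) (b * b / a)) * g⁻¹ =
        tv (g • (eVec i₀ + (b / a) • eVec i₁)) a * tv (g • eVec i₁) (b * b / a) := fun g => by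
      rw [← tv_conj, ← tv_conj]; group
    rw [e, e, hg₁x, hg₁y, hg₂x, hg₂y] at h3
    have h4 := congrFun (congrArg (fun g => g • fVec (F := F) i₁) h3) (Sum.inl i₀)
    simp [mul_smul, tv_smul, form_single_inl, form_single_inr, form_add_left, form_add_right,
      form_smul_left, form_smul_right, hne01, hne01.symm, hb, ha] at h4

end CharTwoSec

/-! ### Images of transvection groups -/

variable [Fintype F]

/-- The image of a frame transvection under an automorphism stabilising the standard Sylow subgroup. -/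
theorem central_image (p : ℕ) [Fact p.Prime] [CharP F p] (hm : 2 ≤ m) {α : MulAut (Cfsg.PSp m F)}
    (hle : (uniPSp m F).map α.toMonoidHom ≤ uniPSp m F) (heq : (uniPSp m F).map α.toMonoidHom = uniPSp m F)
    {t : F} (ht : t ≠ 0) :
    (∃ r, α (T (eVec (F := F) (⟨0, by omega⟩ : Fin m)) t) = T (eVec (F := F) (⟨0, by omega⟩ : Fin m)) r) ∨
      (m = 2 ∧ p = 2 ∧ ∃ b : F, b ≠ 0 ∧ α (T (eVec (F := F) (⟨0, by omega⟩ : Fin m)) t) =
        QuotientGroup.mk (short (eVec (F := F) (⟨0, by omega⟩ : Fin m)) (eVec (⟨1, by omega⟩ : Fin m)) b)) := by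
  set i₀ : Fin m := ⟨0, by omega⟩ with hi₀
  set i₁ : Fin m := ⟨1, by omega⟩ with hi₁
  have hmem0 : T (eVec i₀) t ∈ uniPSp m F :=
    Subgroup.mem_map_of_mem _ (by rw [tv_eVec_eq_radical]; exact radical_mem _ _)
  have hcent : ∀ u ∈ uniPSp m F, T (eVec (F := F) i₀) t * u = u * T (eVec i₀) t := by
    rintro _ ⟨u, hu, rfl⟩
    show QuotientGroup.mk (tv (eVec i₀) t * u) = (QuotientGroup.mk (u * tv (eVec i₀) t) : Cfsg.PSp m F)
    congr 1
    have h1 : ∀ k, (u • eVec (F := F) i₀) k = eVec (F := F) i₀ k := by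
      intro k
      show (u.1 *ᵥ Pi.single (Sum.inl i₀) 1) k = _
      rw [Matrix.mulVec_single_one, Matrix.col_apply]
      obtain ⟨h21, htri, hd⟩ := mem_uniSp.mp hu
      rcases k with k | k
      · by_cases hk : k = i₀
        · subst hk; simpa [Matrix.toBlocks₁₁] using hd _
        · have hlt : i₀ < k := lt_of_le_of_ne (Nat.zero_le _) (Ne.symm hk)
          simpa [Matrix.toBlocks₁₁, hk] using htri (show id i₀ < id k from hlt)
      · simpa [Matrix.toBlocks₂₁] using congrFun (congrFun h21 k) i₀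
    have h2 : u • eVec (F := F) i₀ = eVec i₀ := funext h1
    have h3 := tv_conj u (eVec (F := F) i₀) t
    rw [h2] at h3
    exact (mul_inv_eq_iff_eq_mul.mp h3).symm
  have himg : α (T (eVec i₀) t) ∈ uniPSp m F := hle ⟨_, hmem0, rfl⟩
  have hcent' : ∀ u ∈ uniPSp m F, α (T (eVec i₀) t) * u = u * α (T (eVec i₀) t) := by
    intro u hu
    rw [← heq] at hu
    obtain ⟨u', hu', rfl⟩ := hu
    show α (T (eVec i₀) t) * α u' = α u' * α (T (eVec i₀) t)
    rw [← map_mul, ← map_mul, hcent u' hu']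
  obtain ⟨z, hz, hzα⟩ := himg
  have hzc : ∀ u ∈ uniSp m F, z * u = u * z := by
    intro u hu
    refine mk_injOn_uni p (mul_mem hz hu) (mul_mem hu hz) ?_
    have := hcent' _ (Subgroup.mem_map_of_mem _ hu)
    rw [← hzα] at this
    exact this
  obtain ⟨S, hS, rfl, hbig, h11, h01⟩ := central_uni hz hzc
  have h00 : (i₀ : ℕ) = 0 := rfl
  have h10 : (i₁ : ℕ) = 1 := rfl
  have hne : i₀ ≠ i₁ := by simp [hi₀, hi₁, Fin.ext_iff]
  have hentry : ∀ i j, S i j = (if i = i₀ ∧ j = i₀ then S i₀ i₀ else 0) + (if i = i₀ ∧ j = i₁ then S i₀ i₁ else 0) +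
      (if i = i₁ ∧ j = i₀ then S i₀ i₁ else 0) := by
    intro i j
    have hsym : ∀ a b, S a b = S b a := fun a b => (congrFun (congrFun hS a) b).symm
    rcases (show (i : ℕ) = 0 ∨ (i : ℕ) = 1 ∨ 2 ≤ (i : ℕ) by omega) with hi | hi | hi <;>
    rcases (show (j : ℕ) = 0 ∨ (j : ℕ) = 1 ∨ 2 ≤ (j : ℕ) by omega) with hj | hj | hj
    all_goals
      simp only [Fin.ext_iff, hi₀, hi₁]
    all_goals
      first
        | rw [hbig i j hi, if_neg (by omega), if_neg (by omega), if_neg (by omega)]; simp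
        | rw [hsym i j, hbig j i hj, if_neg (by omega), if_neg (by omega), if_neg (by omega)]; simp
        | skip
    · rw [if_pos ⟨hi, hj⟩, if_neg (by omega), if_neg (by omega), add_zero, add_zero,
        show i = i₀ from Fin.ext hi, show j = i₀ from Fin.ext hj]
    · rw [if_neg (by omega), if_pos ⟨hi, hj⟩, if_neg (by omega), zero_add, add_zero,
        show i = i₀ from Fin.ext hi, show j = i₁ from Fin.ext hj]
    · rw [if_neg (by omega), if_neg (by omega), if_pos ⟨hi, hj⟩, zero_add, zero_add, hsym i j,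
        show i = i₁ from Fin.ext hi, show j = i₀ from Fin.ext hj]
    · rw [if_neg (by omega), if_neg (by omega), if_neg (by omega), add_zero, add_zero,
        show j = i from Fin.ext (hj.trans hi.symm), h11 i hi]
  have hzα' : α (T (eVec i₀) t) = QuotientGroup.mk (radical S hS) := hzα.symm
  rw [hzα']
  have hzero : S i₀ i₁ = 0 → ∃ r, (QuotientGroup.mk (radical S hS) : Cfsg.PSp m F) = T (eVec i₀) r := by
    intro h0
    refine ⟨S i₀ i₀, congrArg QuotientGroup.mk ?_⟩
    rw [tv_eVec_eq_radical]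
    refine Subtype.ext ?_
    show (radical S hS).1 = (radical _ _).1
    rw [radical_coe, radical_coe]
    congr 1
    ext i j
    rw [hentry, h0, Matrix.single_apply]
    simp [eq_comm]
  by_cases hb : S i₀ i₁ = 0
  · exact Or.inl (hzero hb)
  by_cases hp2 : p = 2
  swap
  · exfalso
    refine hb ((mul_eq_zero.mp (h01 i₀ i₁ h00 h10)).resolve_left ?_)
    intro h2
    have hchar : CharP F 2 := CharTwo.of_one_ne_zero_of_two_eq_zero one_ne_zero h2
    exact hp2 (CharP.eq F ‹CharP F p› hchar)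
  subst hp2
  have hgood := (good_T (m := m) (u := eVec (F := F) i₀) (by simp) ht).map α
  rw [hzα'] at hgood
  have hlt : i₀ < i₁ := by show (0 : ℕ) < 1; omega
  have hsplit : radical S hS = tv (eVec i₀) (S i₀ i₀) * short (eVec i₀) (eVec i₁) (S i₀ i₁) := by
    have f01 : sympForm m F (eVec i₀) (eVec (F := F) i₁) = 0 := by simp [form_single_inl]
    refine group_ext fun w => ?_
    rw [mul_smul, short_smul f01, tv_smul, radical_smul]
    simp only [form_add_left, form_smul_left, form_self, form_single_inl]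
    ext (k | k)
    · simp only [Pi.add_apply, Sum.elim_inl, Pi.smul_apply, Matrix.mulVec, dotProduct, smul_eq_mul]
      simp only [hentry k, add_mul, ite_mul, zero_mul, Finset.sum_add_distrib]
      by_cases hk0 : k = i₀
      · subst hk0
        simp [Pi.single_apply, hne, hne.symm]
        ring
      · by_cases hk1 : k = i₁
        · subst hk1
          simp [Pi.single_apply, hne, hne.symm]
        · simp [Pi.single_apply, hk0, hk1]
    · simp [Pi.single_apply]
  rw [hsplit] at hgood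
  by_cases ha : S i₀ i₀ = 0
  · by_cases hm3 : 3 ≤ m
    · rw [ha, tv_zero, one_mul] at hgood
      exact absurd hgood (not_good_short (i₂ := ⟨2, by omega⟩) hlt (by show (1 : ℕ) < 2; omega) hb)
    · exact Or.inr ⟨by omega, rfl, S i₀ i₁, hb, by rw [hsplit, ha, tv_zero, one_mul]⟩
  · exact absurd hgood (not_good_mixed hlt ha hb)


/-- Some inner translate of an automorphism stabilises the standard Sylow subgroup. -/
theorem exists_stabilising (p : ℕ) [Fact p.Prime] [CharP F p] (β : MulAut (Cfsg.PSp m F)) :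
    ∃ s : Spg m F, (uniPSp m F).map (MulAut.conj (QuotientGroup.mk s) * β).toMonoidHom = uniPSp m F := by
  have hP := ((isPGroup_uniSp (F := F) (m := m) p).map (QuotientGroup.mk' _)).map β.toMonoidHom
  obtain ⟨Q, hQ⟩ := hP.exists_le_sylow
  obtain ⟨y, hy⟩ := MulAction.exists_smul_eq (Cfsg.PSp m F) Q (uniSylow p : Sylow p (Cfsg.PSp m F))
  obtain ⟨s, rfl⟩ := QuotientGroup.mk_surjective y
  refine ⟨s, Subgroup.eq_of_le_of_card_ge ?_ (Subgroup.card_map_of_injective (MulEquiv.injective _)).ge⟩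
  rintro _ ⟨z, hz, rfl⟩
  show MulAut.conj (QuotientGroup.mk s) (β z) ∈ uniPSp m F
  rw [← coe_uniSylow p, ← hy]
  exact Subgroup.mem_map_of_mem _ (hQ ⟨z, hz, rfl⟩)

/-- Root groups map into root groups as soon as the standard one does. -/
theorem root_image_of_frame (p : ℕ) [Fact p.Prime] [CharP F p] (hm : 1 ≤ m) {β : MulAut (Cfsg.PSp m F)}
    (h0 : ∃ w, w ≠ 0 ∧ ∀ t, ∃ s, β (T (eVec (F := F) (⟨0, by omega⟩ : Fin m)) t) = T w s)
    {v : Fin m ⊕ Fin m → F} (hv : v ≠ 0) :
    ∃ w, w ≠ 0 ∧ (∀ t, ∃ s, β (T v t) = T w s) ∧ (∀ s, ∃ t, β (T v t) = T w s) := by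
  obtain ⟨w, hw, hfwd⟩ := h0
  obtain ⟨g, hg⟩ := exists_smul_eq_of_ne_zero (u := eVec (F := F) (⟨0, by omega⟩ : Fin m)) (by simp) hv
  obtain ⟨h, hh⟩ := QuotientGroup.mk_surjective (β (QuotientGroup.mk g))
  have hf : ∀ t, ∃ s, β (T v t) = T (h • w) s := fun t => by
    obtain ⟨s, hs⟩ := hfwd t
    refine ⟨s, ?_⟩
    rw [← hg, ← T_conj, map_mul, map_mul, map_inv, hs, ← hh, T_conj]
  refine ⟨h • w, (smul_ne_zero_iff_ne h).2 hw, hf, ?_⟩
  choose σ hσ using hf
  have hinj : Function.Injective σ := fun a b hab => T_inj p hv (β.injective (by rw [hσ, hσ, hab]))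
  intro s
  obtain ⟨t, rfl⟩ := (Finite.injective_iff_surjective.mp hinj) s
  exact ⟨t, hσ t⟩

theorem exists_root_image (p : ℕ) [Fact p.Prime] [CharP F p] (hm : 2 ≤ m) (h4 : m = 2 → p ≠ 2)
    (β : MulAut (Cfsg.PSp m F)) {v : Fin m ⊕ Fin m → F} (hv : v ≠ 0) :
    ∃ w, w ≠ 0 ∧ (∀ t, ∃ s, β (T v t) = T w s) ∧ (∀ s, ∃ t, β (T v t) = T w s) := by
  obtain ⟨s, heq⟩ := exists_stabilising p β
  refine root_image_of_frame p (by omega)
    ⟨s⁻¹ • eVec (⟨0, by omega⟩ : Fin m), (smul_ne_zero_iff_ne _).2 (by simp), fun t => ?_⟩ hv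
  by_cases ht : t = 0
  · exact ⟨0, by rw [ht, T_zero, T_zero, map_one]⟩
  obtain ⟨r, hr⟩ | ⟨e, e', -⟩ := central_image p hm heq.le heq ht
  · refine ⟨r, ?_⟩
    have hr' : (QuotientGroup.mk s : Cfsg.PSp m F) * β (T (eVec (⟨0, by omega⟩ : Fin m)) t) * (QuotientGroup.mk s)⁻¹ =
        T (eVec (⟨0, by omega⟩ : Fin m)) r := hr
    rw [← T_conj, QuotientGroup.mk_inv, inv_inv, ← hr']
    group
  · exact absurd e' (h4 e)

end CfsgLib.AutPSp
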