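import Mathlib
import Cfsg.Agent.Lib.AutPSp.Transvection

/-!
Root-preserving automorphisms of `PSp_{2m}(F)`: planes, closure of vector sets, change of frame.
-/

set_option autoImplicit false

namespace CfsgLib.AutPSp

open Matrix Cfsg
open scoped MatrixGroups
open CfsgLib.Linear.Symp

variable {m : ℕ} {F : Type*} [Field F]

/-- `β` maps each transvection group onto a transvection group. -/
def MapsRoots (β : MulAut (Cfsg.PSp m F)) : Prop :=
  ∀ v : Fin m ⊕ Fin m → F, v ≠ 0 → ∃ w, w ≠ 0 ∧ (∀ t, ∃ s, β (T v t) = T w s) ∧ (∀ s, ∃ t, β (T v t) = T w s)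

theorem mapsRoots [Fintype F] (p : ℕ) [Fact p.Prime] [CharP F p] (hm : 2 ≤ m) (h4 : m = 2 → p ≠ 2)
    (β : MulAut (Cfsg.PSp m F)) : MapsRoots β := fun _ hv => exists_root_image p hm h4 β hv

theorem aut_ext {γ δ : MulAut (Cfsg.PSp m F)}
    (h : ∀ (v : Fin m ⊕ Fin m → F) (t : F), γ (T v t) = δ (T v t)) : γ = δ := by
  refine MulEquiv.ext fun x => ?_
  obtain ⟨s, rfl⟩ := QuotientGroup.mk_surjective x
  have hs : s ∈ transvectionSubgroup m F := by rw [transvectionSubgroup_eq_top]; exact Subgroup.mem_top _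
  induction hs using Subgroup.closure_induction with
  | mem y hy =>
    obtain ⟨v, c, hy⟩ := hy
    obtain rfl : y = tv v c := Subtype.ext hy
    exact h v c
  | one => simp
  | mul y z _ _ hy hz => rw [QuotientGroup.mk_mul, map_mul, map_mul, hy, hz]
  | inv y _ hy => rw [QuotientGroup.mk_inv, map_inv, map_inv, hy]

theorem simAut_T {g : ↥(Cfsg.GSp m F)} {c : Fˣ}
    (hc : ((g : GL (Fin m ⊕ Fin m) F) : Mat m F)ᵀ * Matrix.J (Fin m) F * ((g : GL (Fin m ⊕ Fin m) F) : Mat m F) =
      (c : F) • Matrix.J (Fin m) F) (v : Fin m ⊕ Fin m → F) (t : F) :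
    simAut g (T v t) = T (((g : GL (Fin m ⊕ Fin m) F) : Mat m F) *ᵥ v) (t / c) := by
  rw [T, simAut_mk, conjSp_tv hc]; rfl

theorem fieldAut_T (σ : F ≃+* F) (v : Fin m ⊕ Fin m → F) (t : F) :
    fieldAut σ (T v t) = T (fun i => σ (v i)) (σ t) := by
  rw [T, fieldAut_mk, fieldSp_tv]; rfl

theorem T_plane (i : Fin m) (d c : F) :
    T (eVec i + d • fVec (F := F) i) c = T (fVec i) (-d) * T (eVec i) c * (T (fVec i) (-d))⁻¹ := by
  rw [T.eq_def (fVec i), T_conj, tv_smul, form_single_inr]
  congr 1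
  simp

theorem T_plane' (i : Fin m) (d c : F) :
    T (fVec i + d • eVec (F := F) i) c = T (eVec i) d * T (fVec i) c * (T (eVec i) d)⁻¹ := by
  rw [T.eq_def (eVec i), T_conj, tv_smul, form_single_inl]
  congr 1
  simp

theorem exists_field_of_identity [Finite F] (σ : F → F) (hadd : ∀ s t, σ (s + t) = σ s + σ t) (h1 : σ 1 = 1)
    (hsq : ∀ d c : F, σ (d * d * c) = σ d * σ d * σ c) : ∃ τ : F ≃+* F, ∀ t, τ t = σ t := by
  have h0 : σ 0 = 0 := by simpa using hadd 0 0
  have hmul : ∀ x y, σ (x * y) = σ x * σ y := by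
    by_cases h2 : (2 : F) = 0
    · intro x y
      have : CharP F 2 := CharTwo.of_one_ne_zero_of_two_eq_zero one_ne_zero h2
      let _ := Fintype.ofFinite F
      obtain ⟨e, rfl⟩ := FiniteField.isSquare_of_char_two (ringChar.eq F 2) x
      rw [hsq]
      have he := hsq e 1
      rw [mul_one, h1, mul_one] at he
      rw [he]
    · intro x y
      have e1 := hsq (x + 1) y
      have e2 := hsq x y
      have e3 := hsq 1 y
      rw [show (x + 1) * (x + 1) * y = x * x * y + (x * y + x * y) + 1 * 1 * y by ring, hadd, hadd, hadd, e2, e3,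
        hadd x 1, h1] at e1
      refine mul_left_cancel₀ h2 ?_
      linear_combination e1
  let φ : F →+* F := { toFun := σ, map_one' := h1, map_mul' := hmul, map_zero' := h0, map_add' := hadd }
  exact ⟨RingEquiv.ofBijective φ ⟨φ.injective, Finite.injective_iff_surjective.mp φ.injective⟩, fun _ => rfl⟩

/-- A frame-fixing automorphism acts on each hyperbolic plane through a field automorphism. -/
theorem plane_field [Finite F] (p : ℕ) [Fact p.Prime] [CharP F p] {β : MulAut (Cfsg.PSp m F)} {i : Fin m}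
    {φ ψ : F → F} (he : ∀ t, β (T (eVec i) t) = T (eVec i) (φ t)) (hf : ∀ t, β (T (fVec i) t) = T (fVec i) (ψ t)) :
    ∃ (k : F) (σ : F ≃+* F), k ≠ 0 ∧ (∀ t, φ t = k * σ t) ∧ (∀ t, ψ t = k⁻¹ * σ t) ∧
      ∀ d c, β (T (eVec i + d • fVec i) c) = T (eVec i + ψ d • fVec i) (φ c) := by
  have hne : eVec (F := F) i ≠ 0 := by simp
  have hne' : fVec (F := F) i ≠ 0 := by simp
  have φadd : ∀ s t, φ (s + t) = φ s + φ t := fun s t => T_inj p hne (by rw [← he, ← T_add, map_mul, he, he, T_add])
  have ψadd : ∀ s t, ψ (s + t) = ψ s + ψ t := fun s t => T_inj p hne' (by rw [← hf, ← T_add, map_mul, hf, hf, T_add])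
  have φ0 : φ 0 = 0 := by simpa using φadd 0 0
  have ψ0 : ψ 0 = 0 := by simpa using ψadd 0 0
  have φneg : ∀ t, φ (-t) = -φ t := fun t => eq_neg_of_add_eq_zero_left (by rw [← φadd, neg_add_cancel, φ0])
  have ψneg : ∀ t, ψ (-t) = -ψ t := fun t => eq_neg_of_add_eq_zero_left (by rw [← ψadd, neg_add_cancel, ψ0])
  have φinj : ∀ t, φ t = 0 → t = 0 := fun t ht => T_inj p hne (β.injective (by rw [he, he, ht, φ0]))
  have hline : ∀ d c, β (T (eVec i + d • fVec i) c) = T (eVec i + ψ d • fVec i) (φ c) := by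
    intro d c
    rw [T_plane, T_plane, map_mul, map_mul, map_inv, hf, he, ψneg]
  have key : ∀ d c, d ≠ 0 → c ≠ 0 → ψ d * φ d⁻¹ = 1 ∧ ψ (d * d * c) = ψ d * ψ d * φ c := by
    intro d c hd hc
    have e1 : T (eVec i + d • fVec (F := F) i) c = T (fVec i + d⁻¹ • eVec i) (d * d * c) := by
      rw [← T_smul_vec, smul_add, smul_smul, mul_inv_cancel₀ hd, one_smul, add_comm]
    have e2 := congrArg β e1
    rw [hline, T_plane', map_mul, map_mul, map_inv, he, hf, ← T_plane'] at e2
    obtain ⟨α, -, -, hvec, hd'⟩ := T_eq_T p (by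
        intro h
        have := congrFun h (Sum.inl i)
        simp at this) (fun h => hc (φinj c h)) e2
    have h1 := congrFun hvec (Sum.inl i)
    have h2 := congrFun hvec (Sum.inr i)
    simp at h1 h2
    rw [← h2] at h1 hd'
    exact ⟨h1.symm, hd'⟩
  set k := φ 1 with hk
  have hk0 : k ≠ 0 := fun h => one_ne_zero (φinj 1 h)
  have hψ1 : ψ 1 = k⁻¹ := by
    have h := (key 1 1 one_ne_zero one_ne_zero).1
    rw [inv_one] at h
    exact eq_inv_of_mul_eq_one_left h
  have hψ : ∀ c, ψ c = k⁻¹ * k⁻¹ * φ c := by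
    intro c
    by_cases hc : c = 0
    · simp [hc, φ0, ψ0]
    · have h := (key 1 c one_ne_zero hc).2
      rwa [one_mul, one_mul, hψ1] at h
  obtain ⟨σ, hσ⟩ := exists_field_of_identity (fun t => k⁻¹ * φ t) (fun s t => by simp [φadd, mul_add])
    (inv_mul_cancel₀ hk0) (fun d c => by
      by_cases hd : d = 0
      · simp [hd, φ0]
      by_cases hc : c = 0
      · simp [hc, φ0]
      have h := (key d c hd hc).2
      rw [hψ (d * d * c), hψ d] at h
      field_simp at h ⊢
      linear_combination h)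
  refine ⟨k, σ, hk0, fun t => ?_, fun t => ?_, hline⟩
  · rw [hσ, ← mul_assoc, mul_inv_cancel₀ hk0, one_mul]
  · rw [hσ, hψ, mul_assoc]

/-- Vectors in the plane of the `i`-th hyperbolic pair. -/
def InPlane (i : Fin m) (x : Fin m ⊕ Fin m → F) : Prop := ∀ k, k ≠ i → x (Sum.inl k) = 0 ∧ x (Sum.inr k) = 0

theorem inPlane_eq {i : Fin m} {x : Fin m ⊕ Fin m → F} (h : InPlane i x) :
    x = x (Sum.inl i) • eVec i + x (Sum.inr i) • fVec i := by
  ext (k | k) <;> by_cases hk : k = i
  · subst hk; simp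
  · simp [hk, (h k hk).1]
  · subst hk; simp
  · simp [hk, (h k hk).2]

theorem form_inPlane {i : Fin m} {y : Fin m ⊕ Fin m → F} (hy : InPlane i y) (x : Fin m ⊕ Fin m → F) :
    sympForm m F x y = y (Sum.inl i) * x (Sum.inr i) - y (Sum.inr i) * x (Sum.inl i) := by
  conv_lhs => rw [inPlane_eq hy]
  rw [form_add_right, form_smul_right, form_smul_right, form_single_inl, form_single_inr]
  ring

/-- The component of a vector in the plane of the `i`-th pair. -/
def planePart (i : Fin m) (v : Fin m ⊕ Fin m → F) : Fin m ⊕ Fin m → F :=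
  v (Sum.inl i) • eVec i + v (Sum.inr i) • fVec i

theorem planePart_inPlane (i : Fin m) (v : Fin m ⊕ Fin m → F) : InPlane i (planePart i v) := fun k hk => by
  simp [planePart, hk]

theorem exists_not_orth {i : Fin m} {x : Fin m ⊕ Fin m → F} (hx : InPlane i x) (h0 : x ≠ 0) :
    ∃ z, InPlane i z ∧ sympForm m F x z ≠ 0 := by
  have h : x (Sum.inl i) ≠ 0 ∨ x (Sum.inr i) ≠ 0 := by
    by_contra hc
    push Not at hc
    exact h0 (by rw [inPlane_eq hx, hc.1, hc.2, zero_smul, zero_smul, add_zero])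
  rcases h with h | h
  · exact ⟨fVec i, fun k hk => by simp [hk], by simp [form_single_inr, h]⟩
  · exact ⟨eVec i, fun k hk => by simp [hk], by simp [form_single_inl, h]⟩

/-- A set of vectors closed under scalars and its own transvections, containing a frame and linking vectors,
is everything. -/
theorem closure_all (S : Set (Fin m ⊕ Fin m → F)) (i₀ : Fin m)
    (hsm : ∀ (a : F) v, v ∈ S → a • v ∈ S)
    (hact : ∀ u v (a : F), u ∈ S → v ∈ S → v + (a * sympForm m F v u) • u ∈ S)
    (he : ∀ i, eVec i ∈ S) (hf : ∀ i, fVec i ∈ S) (hlink : ∀ j, j ≠ i₀ → eVec i₀ + eVec j ∈ S) :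
    ∀ v, v ≠ 0 → v ∈ S := by
  have plane : ∀ i x, InPlane i x → x ∈ S := by
    intro i x hx
    by_cases h : x (Sum.inl i) = 0
    · rw [inPlane_eq hx, h, zero_smul, zero_add]; exact hsm _ _ (hf i)
    · have h1 := hsm (x (Sum.inl i)) _ (hact (fVec i) (eVec i) (-(x (Sum.inr i) / x (Sum.inl i))) (hf i) (he i))
      rw [inPlane_eq hx]
      convert h1 using 1
      simp [form_single_inr]
      rw [smul_smul, mul_div_cancel₀ _ h]
  have move : ∀ (i : Fin m) (x x' y : Fin m ⊕ Fin m → F), InPlane i x → InPlane i x' → x ≠ 0 → x' ≠ 0 →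
      (∀ w, InPlane i w → sympForm m F y w = 0) → x + y ∈ S → x' + y ∈ S := by
    intro i x x' y hx hx' h0 h0' hy hxy
    have one : ∀ (a b : Fin m ⊕ Fin m → F), InPlane i a → InPlane i b → sympForm m F a b ≠ 0 → a + y ∈ S → b + y ∈ S := by
      intro a b ha hb hab hS
      have hd : InPlane i (b - a) := fun k hk => ⟨by simp [(ha k hk).1, (hb k hk).1], by simp [(ha k hk).2, (hb k hk).2]⟩
      have h1 := hact (b - a) (a + y) (sympForm m F a b)⁻¹ (plane i _ hd) hS
      rw [form_add_left, hy _ hd, add_zero, form_sub_right, form_self, sub_zero, inv_mul_cancel₀ hab, one_smul] at h1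
      convert h1 using 1
      abel
    by_cases hne : sympForm m F x x' = 0
    · obtain ⟨z, hz, hxz⟩ := exists_not_orth hx h0
      have hzx : sympForm m F z x' ≠ 0 := by
        intro hzx
        rw [form_inPlane hx'] at hne hzx
        rw [form_inPlane hz] at hxz
        have hA : x' (Sum.inl i) * (z (Sum.inl i) * x (Sum.inr i) - z (Sum.inr i) * x (Sum.inl i)) = 0 := by
          linear_combination z (Sum.inl i) * hne - x (Sum.inl i) * hzx
        have hB : x' (Sum.inr i) * (z (Sum.inl i) * x (Sum.inr i) - z (Sum.inr i) * x (Sum.inl i)) = 0 := by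
          linear_combination z (Sum.inr i) * hne - x (Sum.inr i) * hzx
        exact h0' (by rw [inPlane_eq hx', (mul_eq_zero.mp hA).resolve_right hxz, (mul_eq_zero.mp hB).resolve_right hxz,
          zero_smul, zero_smul, add_zero])
      exact one z x' hz hx' hzx (one x z hx hz hxz hxy)
    · exact one x x' hx hx' hne hxy
  have two : ∀ j, j ≠ i₀ → ∀ x y, InPlane i₀ x → InPlane j y → x + y ∈ S := by
    intro j hj x y hx hy
    by_cases h0 : x = 0
    · rw [h0, zero_add]; exact plane j y hy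
    by_cases h1 : y = 0
    · rw [h1, add_zero]; exact plane i₀ x hx
    have orth : ∀ (i k : Fin m), i ≠ k → ∀ a w, InPlane i a → InPlane k w → sympForm m F a w = 0 := by
      intro i k hik a w ha hw
      rw [form_inPlane hw, (ha k (Ne.symm hik)).1, (ha k (Ne.symm hik)).2, mul_zero, mul_zero, sub_zero]
    have he0 : InPlane i₀ (eVec (F := F) i₀) := fun k hk => by simp [hk]
    have hej : InPlane j (eVec (F := F) j) := fun k hk => by simp [hk]
    have h2 := move i₀ (eVec i₀) x (eVec j) he0 hx (by simp) h0 (fun w hw => orth j i₀ hj _ w hej hw) (hlink j hj)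
    rw [add_comm] at h2 ⊢
    exact move j (eVec j) y x hej hy (by simp) h1 (fun w hw => orth i₀ j (Ne.symm hj) _ w hx hw) h2
  have supp : ∀ (s : Finset (Fin m)) (v : Fin m ⊕ Fin m → F), planePart i₀ v ≠ 0 →
      (∀ k, k ≠ i₀ → k ∉ s → v (Sum.inl k) = 0 ∧ v (Sum.inr k) = 0) → v ∈ S := by
    intro s
    induction s using Finset.induction_on with
    | empty => intro v _ hv; exact plane i₀ v fun k hk => hv k hk (Finset.notMem_empty k)
    | insert j s _ ih =>
      intro v hx hv
      by_cases hj : j = i₀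
      · exact ih v hx fun k hk hks => hv k hk (by simp [hks, hj, hk])
      have hxP := planePart_inPlane i₀ v
      have hyP := planePart_inPlane j v
      obtain ⟨z, hz, hxz⟩ := exists_not_orth hxP hx
      set x := planePart i₀ v with hxdef
      set y := planePart j v with hydef
      set w := (x - z) + y with hw
      set v₀ := v - w with hv₀
      have hpl : InPlane i₀ (x - z) := fun k hk => ⟨by simp [(hxP k hk).1, (hz k hk).1], by simp [(hxP k hk).2, (hz k hk).2]⟩
      have hwS : w ∈ S := two j hj _ _ hpl hyP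
      have hc : planePart i₀ v₀ = z := by
        conv_rhs => rw [inPlane_eq hz]
        simp [planePart, hv₀, hw, hxdef, (hyP i₀ (Ne.symm hj)).1, (hyP i₀ (Ne.symm hj)).2]
      have hv₀S : v₀ ∈ S := by
        refine ih v₀ (by rw [hc]; rintro rfl; exact hxz (form_zero_right _)) fun k hk hks => ?_
        by_cases hkj : k = j
        · subst hkj
          simp [hv₀, hw, hydef, planePart, (hxP k hk).1, (hxP k hk).2, (hz k hk).1, (hz k hk).2]
        · obtain ⟨h1, h2⟩ := hv k hk (by simp [hkj, hks])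
          simp [hv₀, hw, h1, h2, (hpl k hk).1, (hpl k hk).2, (hyP k hkj).1, (hyP k hkj).2, (hxP k hk).1,
            (hxP k hk).2, (hz k hk).1, (hz k hk).2]
      have hform : sympForm m F v₀ w = -sympForm m F x z := by
        rw [hv₀, form_sub_left, form_self, sub_zero, hw, form_add_right, form_inPlane hpl, form_inPlane hyP,
          form_inPlane hz]
        simp [hxdef, hydef, planePart, Ne.symm hj, hj]
        ring
      have h1 := hact w v₀ (-sympForm m F x z)⁻¹ hwS hv₀S
      rw [hform, inv_mul_cancel₀ (neg_ne_zero.mpr hxz), one_smul, hv₀, sub_add_cancel] at h1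
      exact h1
  intro v hv
  by_cases hx : planePart i₀ v ≠ 0
  · exact supp Finset.univ v hx fun k _ hk => absurd (Finset.mem_univ k) hk
  push Not at hx
  obtain ⟨j, hj⟩ : ∃ j, planePart j v ≠ 0 := by
    by_contra! hc
    refine hv (funext fun k => ?_)
    rcases k with k | k
    · simpa [planePart] using congrFun (hc k) (Sum.inl k)
    · simpa [planePart] using congrFun (hc k) (Sum.inr k)
  have hji : j ≠ i₀ := fun h => hj (h ▸ hx)
  obtain ⟨z, hz, hyz⟩ := exists_not_orth (planePart_inPlane j v) hj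
  have hwS : eVec i₀ + z ∈ S := two j hji _ _ (fun k hk => by simp [hk]) hz
  have hz0 : planePart i₀ z = 0 := by simp [planePart, (hz i₀ (Ne.symm hji)).1, (hz i₀ (Ne.symm hji)).2]
  have hx0 := congrFun hx (Sum.inl i₀)
  have hx1 := congrFun hx (Sum.inr i₀)
  simp [planePart] at hx0 hx1
  have hv₀S : v + (eVec i₀ + z) ∈ S := by
    refine supp Finset.univ _ ?_ fun k _ hk => absurd (Finset.mem_univ k) hk
    intro h
    have := congrFun h (Sum.inl i₀)
    simp [planePart, hx0, (hz i₀ (Ne.symm hji)).1] at this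
  have hform : sympForm m F (v + (eVec i₀ + z)) (eVec i₀ + z) = sympForm m F (planePart j v) z := by
    rw [form_add_left, form_self, add_zero, form_add_right, form_single_inl, hx1, zero_add, form_inPlane hz,
      form_inPlane hz]
    simp [planePart]
  have h1 := hact _ _ (-(sympForm m F (planePart j v) z)⁻¹) hwS hv₀S
  rw [hform, neg_mul, inv_mul_cancel₀ hyz, neg_one_smul, add_neg_cancel_right] at h1
  exact h1

theorem exists_frame_change (p : ℕ) [Fact p.Prime] [CharP F p] {β : MulAut (Cfsg.PSp m F)} (hβ : MapsRoots β) :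
    ∃ (g : Spg m F) (φ ψ : Fin m → F → F), ∀ i t,
      β (T (eVec i) t) = (QuotientGroup.mk g : Cfsg.PSp m F) * T (eVec i) (φ i t) * (QuotientGroup.mk g)⁻¹ ∧
      β (T (fVec i) t) = (QuotientGroup.mk g : Cfsg.PSp m F) * T (fVec i) (ψ i t) * (QuotientGroup.mk g)⁻¹ := by
  classical
  choose u hu hufwd _ using fun i => hβ (eVec i) (by simp)
  choose w hw hwfwd _ using fun i => hβ (fVec i) (by simp)
  have hs0 : ∀ {x y : Fin m ⊕ Fin m → F}, x ≠ 0 → ∀ {s : F}, β (T x 1) = T y s → s ≠ 0 := by
    intro x y hx s h hs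
    rw [hs, T_zero, MulEquiv.map_eq_one_iff, ← T_zero x] at h
    exact one_ne_zero (T_inj p hx h)
  have hiff : ∀ {x x' y y' : Fin m ⊕ Fin m → F}, x ≠ 0 → x' ≠ 0 → y ≠ 0 → y' ≠ 0 →
      (∀ t, ∃ s, β (T x t) = T y s) → (∀ t, ∃ s, β (T x' t) = T y' s) →
      (sympForm m F x x' = 0 ↔ sympForm m F y y' = 0) := by
    intro x x' y y' hx hx' hy hy' h h'
    obtain ⟨s, hs⟩ := h 1
    obtain ⟨s', hs'⟩ := h' 1
    constructor
    · intro h0
      refine form_eq_zero_of_comm p hy hy' (hs0 hx hs) (hs0 hx' hs') ?_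
      rw [← hs, ← hs']
      exact (comm_of_form_eq_zero h0 1 1).map β
    · intro h0
      refine form_eq_zero_of_comm p hx hx' one_ne_zero one_ne_zero ?_
      have := (comm_of_form_eq_zero h0 s s').map β.symm
      rwa [← hs, ← hs', β.symm_apply_apply, β.symm_apply_apply] at this
  have huu : ∀ i j, sympForm m F (u i) (u j) = 0 := fun i j =>
    (hiff (by simp) (by simp) (hu i) (hu j) (hufwd i) (hufwd j)).mp (by simp [form_single_inl])
  have hww : ∀ i j, sympForm m F (w i) (w j) = 0 := fun i j =>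
    (hiff (by simp) (by simp) (hw i) (hw j) (hwfwd i) (hwfwd j)).mp (by simp [form_single_inr])
  have huw : ∀ i j, sympForm m F (u i) (w j) = 0 ↔ i ≠ j := fun i j => by
    rw [← hiff (by simp) (by simp) (hu i) (hw j) (hufwd i) (hwfwd j), form_single_inr, neg_eq_zero]
    simp [Pi.single_apply, eq_comm]
  let a : Fin m → F := fun i => -(sympForm m F (u i) (w i))⁻¹
  have ha : ∀ i, a i ≠ 0 := fun i => neg_ne_zero.mpr (inv_ne_zero fun h => (huw i i).mp h rfl)
  let col : Fin m ⊕ Fin m → Fin m ⊕ Fin m → F := Sum.elim u fun i => a i • w i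
  let G : Mat m F := Matrix.of fun r c => col c r
  have hG : G ∈ Matrix.symplecticGroup (Fin m) F := by
    rw [SymplecticGroup.mem_iff']
    ext x y
    have h1 : (Gᵀ * Matrix.J (Fin m) F * G) x y = sympForm m F (col x) (col y) := by
      rw [Matrix.mul_assoc]; rfl
    rw [h1]
    rcases x with i | i <;> rcases y with j | j
    · simp [col, huu, Matrix.J]
    · simp only [col, Sum.elim_inl, Sum.elim_inr, form_smul_right, Matrix.J, Matrix.fromBlocks_apply₁₂, Matrix.neg_apply]
      by_cases hij : i = j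
      · subst hij
        rw [Matrix.one_apply_eq]
        simp only [a]
        rw [neg_mul, inv_mul_cancel₀ fun h => (huw i i).mp h rfl]
      · rw [(huw i j).mpr hij, mul_zero, Matrix.one_apply_ne hij, neg_zero]
    · simp only [col, Sum.elim_inl, Sum.elim_inr, form_smul_left, Matrix.J, Matrix.fromBlocks_apply₂₁]
      rw [form_swap (u j) (w i)]
      by_cases hij : i = j
      · subst hij
        rw [Matrix.one_apply_eq]
        simp only [a]
        rw [neg_mul_neg, inv_mul_cancel₀ fun h => (huw i i).mp h rfl]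
      · rw [(huw j i).mpr (Ne.symm hij), neg_zero, mul_zero, Matrix.one_apply_ne hij]
    · simp [col, hww, form_smul_left, form_smul_right, Matrix.J]
  let g : Spg m F := ⟨G, hG⟩
  have hge : ∀ i, g • eVec (F := F) i = u i := fun i => by
    show G *ᵥ Pi.single (Sum.inl i) 1 = _
    rw [Matrix.mulVec_single_one]; rfl
  have hgf : ∀ i, g • fVec (F := F) i = a i • w i := fun i => by
    show G *ᵥ Pi.single (Sum.inr i) 1 = _
    rw [Matrix.mulVec_single_one]; rfl
  choose φ hφ using hufwd
  choose ψ hψ using hwfwd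
  refine ⟨g, φ, fun i t => ψ i t / (a i * a i), fun i t => ⟨?_, ?_⟩⟩
  · rw [T_conj, hge, hφ]
  · rw [T_conj, hgf, T_smul_vec, hψ, mul_div_cancel₀ _ (mul_ne_zero (ha i) (ha i))]

end CfsgLib.AutPSp
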