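import Mathlib
import Cfsg.Agent.Lib.AutPSp.Frame

/-!
An automorphism of `PSp_{2m}(F)` permuting the transvection groups is a similitude times a field automorphism.
-/

set_option autoImplicit false

namespace CfsgLib.AutPSp

open Matrix Cfsg
open scoped MatrixGroups
open CfsgLib.Linear.Symp

variable {m : ℕ} {F : Type*} [Field F]

theorem image_ne_zero (p : ℕ) [Fact p.Prime] [CharP F p] {β : MulAut (Cfsg.PSp m F)}
    {x y : Fin m ⊕ Fin m → F} (hx : x ≠ 0) {t s : F} (ht : t ≠ 0) (h : β (T x t) = T y s) : s ≠ 0 := by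
  intro hs
  rw [hs, T_zero, MulEquiv.map_eq_one_iff, ← T_zero x] at h
  exact ht (T_inj p hx h)

theorem image_form_iff (p : ℕ) [Fact p.Prime] [CharP F p] {β : MulAut (Cfsg.PSp m F)}
    {x x' y y' : Fin m ⊕ Fin m → F} (hx : x ≠ 0) (hx' : x' ≠ 0) (hy : y ≠ 0) (hy' : y' ≠ 0)
    {t t' s s' : F} (ht : t ≠ 0) (ht' : t' ≠ 0) (h : β (T x t) = T y s) (h' : β (T x' t') = T y' s') :
    sympForm m F x x' = 0 ↔ sympForm m F y y' = 0 := by
  constructor
  · intro h0
    refine form_eq_zero_of_comm p hy hy' (image_ne_zero p hx ht h) (image_ne_zero p hx' ht' h') ?_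
    rw [← h, ← h']
    exact (comm_of_form_eq_zero h0 t t').map β
  · intro h0
    refine form_eq_zero_of_comm p hx hx' ht ht' ?_
    have := (comm_of_form_eq_zero h0 s s').map β.symm
    rwa [← h, ← h', β.symm_apply_apply, β.symm_apply_apply] at this

/-- Comparing a linking vector with the `i`-th plane. -/
theorem probe (p : ℕ) [Fact p.Prime] [CharP F p] {β : MulAut (Cfsg.PSp m F)} {i : Fin m} {φ ψ : F → F}
    (he : ∀ t, β (T (eVec i) t) = T (eVec i) (φ t)) (hf : ∀ t, β (T (fVec i) t) = T (fVec i) (ψ t))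
    (hline : ∀ d c, β (T (eVec i + d • fVec i) c) = T (eVec i + ψ d • fVec i) (φ c))
    {v v' : Fin m ⊕ Fin m → F} {Ψ : F → F} (hΨ : ∀ t, β (T v t) = T v' (Ψ t))
    (hv : v (Sum.inr i) = 0) (hv' : v' (Sum.inr i) = 0) (hvl : v (Sum.inl i) = 1) {t : F} (ht : t ≠ 0) :
    Ψ t * v' (Sum.inl i) * v' (Sum.inl i) * ψ t⁻¹ = 1 := by
  set r := v' (Sum.inl i) with hr
  have hfv : sympForm m F (fVec i) v = 1 := by rw [form_swap, form_single_inr, neg_neg, hvl]
  have hfv' : sympForm m F (fVec i) v' = r := by rw [form_swap, form_single_inr, neg_neg]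
  have hP : ∀ c, β (T (fVec i + t • v) c) = T (fVec i + (Ψ t * r) • v') (ψ c) := by
    intro c
    have e : T v t * T (fVec i) c * (T v t)⁻¹ = T (fVec i + t • v) c := by
      rw [T.eq_def v, T_conj, tv_smul, hfv, mul_one]
    rw [← e, map_mul, map_mul, map_inv, hΨ, hf, T.eq_def v', T_conj, tv_smul, hfv']
  have hzero : sympForm m F (fVec i + t • v) (eVec i + t⁻¹ • fVec i) = 0 := by
    simp [form_add_left, form_add_right, form_smul_left, form_smul_right, form_single_inl, form_single_inr, hv, hvl, ht]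
  have hne1 : fVec i + t • v ≠ (0 : Fin m ⊕ Fin m → F) := fun h => by
    simpa [hv] using congrFun h (Sum.inr i)
  have hne2 : eVec i + t⁻¹ • fVec i ≠ (0 : Fin m ⊕ Fin m → F) := fun h => by
    simpa using congrFun h (Sum.inl i)
  have hne3 : fVec i + (Ψ t * r) • v' ≠ (0 : Fin m ⊕ Fin m → F) := fun h => by
    simpa [hv'] using congrFun h (Sum.inr i)
  have hne4 : eVec i + ψ t⁻¹ • fVec i ≠ (0 : Fin m ⊕ Fin m → F) := fun h => by
    simpa using congrFun h (Sum.inl i)
  have h0 := (image_form_iff p hne1 hne2 hne3 hne4 one_ne_zero one_ne_zero (hP 1) (hline t⁻¹ 1)).mp hzero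
  simp [form_add_left, form_add_right, form_smul_left, form_smul_right, form_single_inl, form_single_inr, hv', ← hr] at h0
  linear_combination -h0

/-- The scalings on two planes are linked. -/
theorem link (p : ℕ) [Fact p.Prime] [CharP F p] {β : MulAut (Cfsg.PSp m F)} (hroots : MapsRoots β)
    {k : Fin m → F} {σ : Fin m → F ≃+* F} {φ ψ : Fin m → F → F} (hk : ∀ i, k i ≠ 0)
    (hφ : ∀ i t, φ i t = k i * σ i t) (hψ : ∀ i t, ψ i t = (k i)⁻¹ * σ i t)
    (hline : ∀ i d c, β (T (eVec i + d • fVec i) c) = T (eVec i + ψ i d • fVec i) (φ i c))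
    (he : ∀ i t, β (T (eVec i) t) = T (eVec i) (φ i t)) (hf : ∀ i t, β (T (fVec i) t) = T (fVec i) (ψ i t))
    {i₀ j : Fin m} (hj : j ≠ i₀) :
    ∃ s : F, s ≠ 0 ∧ k j = k i₀ * (s * s) ∧ σ j = σ i₀ ∧
      ∀ t, β (T (eVec i₀ + eVec j) t) = T (eVec i₀ + s • eVec j) (k i₀ * σ i₀ t) := by
  classical
  set v : Fin m ⊕ Fin m → F := eVec i₀ + eVec j with hv
  have hv0 : v ≠ 0 := fun h => by simpa [hv, Ne.symm hj] using congrFun h (Sum.inl i₀)
  obtain ⟨w, hw0, hwfwd, -⟩ := hroots v hv0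
  obtain ⟨s1, hs1⟩ := hwfwd 1
  have hwr : ∀ l, w (Sum.inr l) = 0 := fun l => by
    have := (image_form_iff p hv0 (by simp) hw0 (by simp) one_ne_zero one_ne_zero hs1 (he l 1)).mp
      (by simp [hv, form_single_inl])
    rwa [form_single_inl] at this
  have hwl : ∀ l, (w (Sum.inl l) = 0 ↔ (l ≠ i₀ ∧ l ≠ j)) := fun l => by
    have := image_form_iff p hv0 (by simp) hw0 (by simp) one_ne_zero one_ne_zero hs1 (hf l 1)
    rw [form_single_inr, form_single_inr, neg_eq_zero, neg_eq_zero] at this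
    rw [← this]
    by_cases h1 : l = i₀
    · subst h1; simp [hv, Ne.symm hj]
    · by_cases h2 : l = j
      · subst h2; simp [hv, h1]
      · simp [hv, h1, h2]
  set a := w (Sum.inl i₀) with ha
  have ha0 : a ≠ 0 := fun h => ((hwl i₀).mp h).1 rfl
  set s := w (Sum.inl j) / a with hs
  have hs0 : s ≠ 0 := div_ne_zero (fun h => ((hwl j).mp h).2 rfl) ha0
  have hwv : w = a • (eVec i₀ + s • eVec j) := by
    ext (l | l)
    · by_cases h1 : l = i₀
      · subst h1; simp [ha, Ne.symm hj]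
      · by_cases h2 : l = j
        · subst h2; simp [hs, h1, mul_div_cancel₀ _ ha0]
        · simp [(hwl l).mpr ⟨h1, h2⟩, h1, h2]
    · simp [hwr l]
  choose Φ hΦ using hwfwd
  have hΦ' : ∀ t, β (T v t) = T (eVec i₀ + s • eVec j) (a * a * Φ t) := fun t => by rw [hΦ, hwv, T_smul_vec]
  have hA : ∀ t, t ≠ 0 → a * a * Φ t * ψ i₀ t⁻¹ = 1 := fun t ht => by
    have h := probe p (he i₀) (hf i₀) (hline i₀) hΦ' (by simp [hv]) (by simp) (by simp [hv, Ne.symm hj]) ht
    simpa [Ne.symm hj] using h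
  have hB : ∀ t, t ≠ 0 → a * a * Φ t * s * s * ψ j t⁻¹ = 1 := fun t ht => by
    have h := probe p (he j) (hf j) (hline j) hΦ' (by simp [hv]) (by simp) (by simp [hv, hj]) ht
    simpa [hj] using h
  have hΦeq : ∀ t, t ≠ 0 → a * a * Φ t = k i₀ * σ i₀ t := by
    intro t ht
    have h := hA t ht
    rw [hψ, map_inv₀] at h
    have : σ i₀ t ≠ 0 := by simpa using ht
    have := hk i₀
    field_simp at h
    linear_combination h
  have hrel : ∀ t, t ≠ 0 → k j * σ j t = k i₀ * (s * s) * σ i₀ t := by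
    intro t ht
    have h := hB t ht
    rw [hΦeq t ht, hψ, map_inv₀] at h
    have : σ j t ≠ 0 := by simpa using ht
    have := hk j
    field_simp at h
    linear_combination -h
  have hkj : k j = k i₀ * (s * s) := by simpa using hrel 1 one_ne_zero
  refine ⟨s, hs0, hkj, RingEquiv.ext fun t => ?_, fun t => ?_⟩
  · by_cases ht : t = 0
    · simp [ht]
    · exact mul_left_cancel₀ (hk j) (by rw [hrel t ht, hkj])
  · by_cases ht : t = 0
    · simp [ht, T_zero]
    · rw [hΦ', hΦeq t ht]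

/-- A diagonal matrix with unit entries. -/
def diagGL (d : Fin m ⊕ Fin m → Fˣ) : GL (Fin m ⊕ Fin m) F :=
  ⟨Matrix.diagonal fun i => (d i : F), Matrix.diagonal fun i => ((d i)⁻¹ : Fˣ).1,
    by rw [Matrix.diagonal_mul_diagonal]; simp, by rw [Matrix.diagonal_mul_diagonal]; simp⟩

theorem diagGL_form (l : Fin m → Fˣ) (c : Fˣ) :
    (diagGL (Sum.elim l fun i => c / l i) : Mat m F)ᵀ * Matrix.J (Fin m) F *
      (diagGL (Sum.elim l fun i => c / l i) : Mat m F) = (c : F) • Matrix.J (Fin m) F := by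
  show (Matrix.diagonal _)ᵀ * _ * Matrix.diagonal _ = _
  rw [Matrix.diagonal_transpose]
  ext x y
  rw [Matrix.mul_diagonal, Matrix.diagonal_mul, Matrix.smul_apply, smul_eq_mul]
  rcases x with i | i <;> rcases y with j | j <;> by_cases hij : i = j
  all_goals simp [Matrix.J, hij]
  all_goals field_simp

/-- The similitude given by a diagonal matrix. -/
def diagSim (l : Fin m → Fˣ) (c : Fˣ) : ↥(Cfsg.GSp m F) :=
  ⟨diagGL (Sum.elim l fun i => c / l i), mem_GSp_iff.mpr ⟨c, diagGL_form l c⟩⟩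

theorem diag_field_T (l : Fin m → Fˣ) (c : Fˣ) (τ : F ≃+* F) (v : Fin m ⊕ Fin m → F) (t : F) :
    (simAut (diagSim l c) * fieldAut τ : MulAut (Cfsg.PSp m F)) (T v t) =
      T (fun i => ((Sum.elim l fun i => c / l i) i : F) * τ (v i)) (τ t / c) := by
  rw [MulAut.mul_apply, fieldAut_T, simAut_T (g := diagSim l c) (c := c) (diagGL_form l c)]
  congr 1
  funext i
  exact Matrix.mulVec_diagonal _ _ _

theorem diag_field_single (l : Fin m → Fˣ) (c : Fˣ) (τ : F ≃+* F) (x : Fin m ⊕ Fin m) (t : F) :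
    (simAut (diagSim l c) * fieldAut τ : MulAut (Cfsg.PSp m F)) (T (Pi.single x 1) t) =
      T (Pi.single x 1) (((Sum.elim l fun i => c / l i) x : F) * ((Sum.elim l fun i => c / l i) x : F) * (τ t / c)) := by
  rw [diag_field_T, ← T_smul_vec]
  congr 1
  funext i
  by_cases hi : i = x
  · subst hi; simp
  · simp [hi]

theorem eq_of_agree [Fintype F] {γ δ : MulAut (Cfsg.PSp m F)} (i₀ : Fin m)
    (he : ∀ i t, γ (T (eVec i) t) = δ (T (eVec i) t)) (hf : ∀ i t, γ (T (fVec i) t) = δ (T (fVec i) t))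
    (hlink : ∀ j, j ≠ i₀ → ∀ t, γ (T (eVec i₀ + eVec j) t) = δ (T (eVec i₀ + eVec j) t)) : γ = δ := by
  let S : Set (Fin m ⊕ Fin m → F) := {v | ∀ t, γ (T v t) = δ (T v t)}
  have hsm : ∀ (a : F) v, v ∈ S → a • v ∈ S := fun a v hv t => by rw [T_smul_vec]; exact hv _
  have hact : ∀ u v (a : F), u ∈ S → v ∈ S → v + (a * sympForm m F v u) • u ∈ S := by
    intro u v a hu hv t
    have e : T (v + (a * sympForm m F v u) • u) t = T u a * T v t * (T u a)⁻¹ := by
      rw [T.eq_def u, T_conj, tv_smul]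
    rw [e, map_mul, map_mul, map_inv, map_mul, map_mul, map_inv, hu a, hv t]
  have hS := closure_all S i₀ hsm hact he hf hlink
  refine aut_ext fun v t => ?_
  by_cases hv : v = 0
  · subst hv
    have h1 : ∀ t, (T (0 : Fin m ⊕ Fin m → F) t : Cfsg.PSp m F) = 1 := fun t => by
      rw [T, show tv (0 : Fin m ⊕ Fin m → F) t = 1 from group_ext fun x => by simp [tv_smul]]; rfl
    rw [h1, map_one, map_one]
  · exact hS v hv t

/-- A root-preserving automorphism fixing a frame of root groups is diagonal times a field automorphism. -/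
theorem frame_fixed [Fintype F] (p : ℕ) [Fact p.Prime] [CharP F p] (hm : 1 ≤ m) {β : MulAut (Cfsg.PSp m F)}
    (hroots : MapsRoots β) {φ ψ : Fin m → F → F}
    (he : ∀ i t, β (T (eVec i) t) = T (eVec i) (φ i t)) (hf : ∀ i t, β (T (fVec i) t) = T (fVec i) (ψ i t)) :
    ∃ (g : ↥(Cfsg.GSp m F)) (σ : F ≃+* F), β = simAut g * fieldAut σ := by
  classical
  choose k σ hk hφ hψ hline using fun i => plane_field p (he i) (hf i)
  let i₀ : Fin m := ⟨0, hm⟩
  choose sc hsc0 hsck hscσ hscv using fun j (hj : j ≠ i₀) => link p hroots hk hφ hψ hline he hf hj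
  let l : Fin m → Fˣ := fun i => if h : i = i₀ then 1 else Units.mk0 (sc i h) (hsc0 i h)
  let c : Fˣ := (Units.mk0 (k i₀) (hk i₀))⁻¹
  have hkl : ∀ i, k i = k i₀ * ((l i : F) * (l i : F)) := fun i => by
    simp only [l]; split_ifs with h
    · rw [h, Units.val_one, mul_one, mul_one]
    · exact hsck i h
  have hστ : ∀ i, σ i = σ i₀ := fun i => by
    by_cases h : i = i₀
    · rw [h]
    · exact hscσ i h
  have hc : ∀ x : F, x / (c : F) = x * k i₀ := fun x => by simp [c]
  refine ⟨diagSim l c, σ i₀, eq_of_agree i₀ (fun i t => ?_) (fun i t => ?_) (fun j hj t => ?_)⟩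
  · rw [he, hφ, hστ, hkl, diag_field_single, hc]
    congr 1
    simp only [Sum.elim_inl]
    ring
  · rw [hf, hψ, hστ, hkl, diag_field_single, hc]
    congr 1
    simp only [Sum.elim_inr, Units.val_div_eq_div_val, c, Units.val_inv_eq_inv_val, Units.val_mk0]
    have := (l i).ne_zero
    have := hk i₀
    field_simp
  · rw [hscv j hj, diag_field_T, hc, mul_comm]
    congr 1
    funext i
    rcases i with i | i
    · by_cases h1 : i = i₀
      · subst h1; simp [l, Ne.symm hj]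
      · by_cases h2 : i = j
        · subst h2; simp [l, h1]
        · simp [h1, h2]
    · simp

/-- Every root-preserving automorphism is a similitude times a field automorphism. -/
theorem decomposition_of_mapsRoots [Fintype F] (p : ℕ) [Fact p.Prime] [CharP F p] (hm : 1 ≤ m)
    {β₀ : MulAut (Cfsg.PSp m F)} (hall : ∀ β : MulAut (Cfsg.PSp m F), (∃ x, β = MulAut.conj x * β₀) → MapsRoots β)
    : ∃ (g : ↥(Cfsg.GSp m F)) (σ : F ≃+* F), β₀ = simAut g * fieldAut σ := by
  obtain ⟨g, φ, ψ, hframe⟩ := exists_frame_change p (hall β₀ ⟨1, by rw [map_one, one_mul]⟩)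
  set y : Cfsg.PSp m F := QuotientGroup.mk g with hy
  have key : ∀ a b : Cfsg.PSp m F, y⁻¹ * (y * a * y⁻¹) * y⁻¹⁻¹ = a := fun a b => by group
  have he : ∀ i t, (MulAut.conj y⁻¹ * β₀) (T (eVec i) t) = T (eVec i) (φ i t) := fun i t => by
    rw [MulAut.mul_apply, (hframe i t).1, MulAut.conj_apply]; exact key _ 1
  have hf : ∀ i t, (MulAut.conj y⁻¹ * β₀) (T (fVec i) t) = T (fVec i) (ψ i t) := fun i t => by
    rw [MulAut.mul_apply, (hframe i t).2, MulAut.conj_apply]; exact key _ 1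
  obtain ⟨D, τ, hD⟩ := frame_fixed p hm (hall _ ⟨y⁻¹, rfl⟩) he hf
  refine ⟨spToGSp g * D, τ, ?_⟩
  rw [map_mul, simAut_spToGSp, mul_assoc, ← hD, ← mul_assoc, ← map_mul, mul_inv_cancel, map_one, one_mul]

/-- `Aut(PSp_{2m}(F))`. -/
theorem aut_decomposition [Fintype F] (p : ℕ) [Fact p.Prime] [CharP F p] (hm : 2 ≤ m) (h4 : m = 2 → p ≠ 2)
    (β : MulAut (Cfsg.PSp m F)) : ∃ (g : ↥(Cfsg.GSp m F)) (σ : F ≃+* F), β = simAut g * fieldAut σ :=
  decomposition_of_mapsRoots p (by omega) fun β' _ => mapsRoots p hm h4 β'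

end CfsgLib.AutPSp
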