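import Mathlib
import Cfsg.Agent.Lib.AutPSp.Main
import Cfsg.Agent.Lib.AutPSL.Count

/-!
The kernel of `GSp_{2m} → Aut(PSp_{2m})`, the multiplier and the order of the inner-diagonal group.
-/

set_option autoImplicit false

namespace CfsgLib.AutPSp

open Matrix Cfsg
open scoped MatrixGroups
open CfsgLib.Linear.Symp
open CfsgLib.AutPSL (halfScalar halfScalar_mul_J simGroup_J_decomp)

variable {m : ℕ} {F : Type*} [Field F]

/-- The matrix of a similitude. -/
abbrev gMat (g : ↥(Cfsg.GSp m F)) : Mat m F := ((g : GL (Fin m ⊕ Fin m) F) : Mat m F)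

theorem gMat_mul (g h : ↥(Cfsg.GSp m F)) : gMat (g * h) = gMat g * gMat h := rfl

theorem gsp_ext {g h : ↥(Cfsg.GSp m F)} (e : gMat g = gMat h) : g = h := Subtype.ext (Units.ext e)

theorem J_entry (i : Fin m) : Matrix.J (Fin m) F (Sum.inr i) (Sum.inl i) = 1 := by simp [Matrix.J]

theorem mult_unique (hm : 1 ≤ m) {g : ↥(Cfsg.GSp m F)} {c d : Fˣ}
    (hc : (gMat g)ᵀ * Matrix.J (Fin m) F * gMat g = (c : F) • Matrix.J (Fin m) F)
    (hd : (gMat g)ᵀ * Matrix.J (Fin m) F * gMat g = (d : F) • Matrix.J (Fin m) F) : c = d := by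
  have h := congrFun (congrFun (hc.symm.trans hd) (Sum.inr ⟨0, hm⟩)) (Sum.inl ⟨0, hm⟩)
  rw [Matrix.smul_apply, Matrix.smul_apply, J_entry, smul_eq_mul, smul_eq_mul, mul_one, mul_one] at h
  exact Units.ext h

/-- The multiplier of a similitude. -/
noncomputable def mult (g : ↥(Cfsg.GSp m F)) : Fˣ := (mem_GSp_iff.mp g.2).choose

theorem mult_spec (g : ↥(Cfsg.GSp m F)) :
    (gMat g)ᵀ * Matrix.J (Fin m) F * gMat g = (mult g : F) • Matrix.J (Fin m) F :=
  (mem_GSp_iff.mp g.2).choose_spec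

theorem mult_eq (hm : 1 ≤ m) {g : ↥(Cfsg.GSp m F)} {c : Fˣ}
    (hc : (gMat g)ᵀ * Matrix.J (Fin m) F * gMat g = (c : F) • Matrix.J (Fin m) F) : mult g = c :=
  mult_unique hm (mult_spec g) hc

/-- The multiplier as a homomorphism. -/
noncomputable def multHom (hm : 1 ≤ m) : ↥(Cfsg.GSp m F) →* Fˣ where
  toFun := mult
  map_one' := mult_eq hm (by simp [gMat])
  map_mul' g h := mult_eq hm (by
    rw [gMat_mul, Matrix.transpose_mul]
    calc (gMat h)ᵀ * (gMat g)ᵀ * Matrix.J (Fin m) F * (gMat g * gMat h) =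
          (gMat h)ᵀ * ((gMat g)ᵀ * Matrix.J (Fin m) F * gMat g) * gMat h := by simp only [Matrix.mul_assoc]
      _ = _ := by rw [mult_spec g, Matrix.mul_smul, Matrix.smul_mul, mult_spec h, smul_smul, Units.val_mul])

/-- Scalars inside `GSp`. -/
noncomputable def scalarSim : Fˣ →* ↥(Cfsg.GSp m F) :=
  (Matrix.GeneralLinearGroup.scalar (Fin m ⊕ Fin m)).codRestrict _ fun u => mem_GSp_iff.mpr
    ⟨u * u, by
      show (Matrix.scalar (Fin m ⊕ Fin m) (u : F))ᵀ * _ * Matrix.scalar (Fin m ⊕ Fin m) (u : F) = _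
      rw [Matrix.scalar_apply, ← Matrix.smul_one_eq_diagonal, Matrix.transpose_smul, Matrix.transpose_one,
        Matrix.smul_mul, Matrix.one_mul, Matrix.smul_mul, Matrix.mul_smul, Matrix.mul_one, smul_smul, Units.val_mul]⟩

theorem scalarSim_coe (u : Fˣ) : gMat (scalarSim (m := m) u) = (u : F) • 1 :=
  (Matrix.smul_one_eq_diagonal _).symm

theorem simAut_scalarSim (u : Fˣ) : simAut (scalarSim (m := m) u) = (1 : MulAut (Cfsg.PSp m F)) := by
  show CfsgLib.AutPSL.descend (conjSp (scalarSim u)) = 1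
  have h : conjSp (scalarSim (m := m) u) = (1 : MulAut (Spg m F)) := by
    refine MulEquiv.ext fun s => Subtype.ext ?_
    rw [conjSp_coe, MulAut.one_apply]
    have h1 : ((((scalarSim (m := m) u : ↥(Cfsg.GSp m F)) : GL (Fin m ⊕ Fin m) F)⁻¹ : GL (Fin m ⊕ Fin m) F) : Mat m F) =
        ((u⁻¹ : Fˣ) : F) • (1 : Mat m F) := by
      rw [← InvMemClass.coe_inv, ← map_inv]; exact scalarSim_coe u⁻¹
    rw [h1, show ((scalarSim (m := m) u : GL (Fin m ⊕ Fin m) F) : Mat m F) = (u : F) • 1 from scalarSim_coe u]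
    rw [Matrix.smul_mul, Matrix.one_mul, Matrix.mul_smul, Matrix.mul_one, smul_smul, Units.inv_mul, one_smul]
  rw [h, map_one]

theorem mult_scalarSim (hm : 1 ≤ m) (u : Fˣ) : multHom hm (scalarSim (m := m) u) = u * u :=
  mult_eq hm (by
    rw [scalarSim_coe, Matrix.transpose_smul, Matrix.transpose_one, Matrix.smul_mul, Matrix.one_mul,
      Matrix.smul_mul, Matrix.mul_smul, Matrix.mul_one, smul_smul, Units.val_mul])

theorem mult_spToGSp (hm : 1 ≤ m) (A : Spg m F) : multHom hm (spToGSp A) = 1 :=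
  mult_eq hm (by rw [show gMat (spToGSp A) = A.1 from spToGSp_coe A, SymplecticGroup.mem_iff'.mp A.2,
    Units.val_one, one_smul])

theorem multHom_surjective (hm : 1 ≤ m) : Function.Surjective (multHom (F := F) hm) := fun c =>
  ⟨⟨halfScalar m c, mem_GSp_iff.mpr ⟨c, halfScalar_mul_J m c⟩⟩, mult_eq hm (halfScalar_mul_J m c)⟩

/-- A similitude of multiplier one is symplectic. -/
theorem exists_spToGSp (hm : 1 ≤ m) {g : ↥(Cfsg.GSp m F)} (h : multHom hm g = 1) : ∃ A, spToGSp A = g := by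
  have h' := mult_spec g
  rw [show mult g = 1 from h, Units.val_one, one_smul] at h'
  exact ⟨⟨gMat g, SymplecticGroup.mem_iff'.mpr h'⟩, gsp_ext rfl⟩

variable [Fintype F]

/-- A semilinear similitude acting trivially is scalar, with trivial field part. -/
theorem semilinear_eq_one (hm : 1 ≤ m) {g : ↥(Cfsg.GSp m F)} {σ : F ≃+* F}
    (h : simAut g * fieldAut σ = (1 : MulAut (Cfsg.PSp m F))) : (∃ u : Fˣ, g = scalarSim u) ∧ σ = 1 := by
  obtain ⟨p, hp⟩ := CharP.exists F
  haveI := hp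
  haveI : Fact p.Prime := ⟨CharP.char_is_prime F p⟩
  let σv : (Fin m ⊕ Fin m → F) → Fin m ⊕ Fin m → F := fun v i => σ (v i)
  have key : ∀ v : Fin m ⊕ Fin m → F, v ≠ 0 → ∃ a : F, a ≠ 0 ∧ gMat g *ᵥ σv v = a • v := by
    intro v hv
    have h1 := DFunLike.congr_fun h (T v 1)
    rw [MulAut.mul_apply, fieldAut_T, simAut_T (mult_spec g), MulAut.one_apply, map_one] at h1
    obtain ⟨α, hα, -, hvec, -⟩ := T_eq_T p hv one_ne_zero h1.symm
    exact ⟨α⁻¹, inv_ne_zero hα, by conv_rhs => rw [hvec, inv_smul_smul₀ hα]⟩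
  choose a ha0 ha using key
  have hsingle : ∀ i : Fin m ⊕ Fin m, σv (Pi.single i 1) = Pi.single i 1 := fun i => by
    funext j
    by_cases hj : j = i
    · subst hj; simp [σv]
    · simp [σv, hj]
  let d : Fin m ⊕ Fin m → F := fun i => a (Pi.single i 1) (by simp)
  have hG : gMat g = Matrix.diagonal d := by
    ext i j
    have h1 := congrFun (ha (Pi.single j 1) (by simp)) i
    rw [hsingle, Matrix.mulVec_single_one, Matrix.col_apply] at h1
    rw [h1, Matrix.diagonal_apply]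
    by_cases hij : i = j
    · subst hij; simp [d]
    · simp [hij]
  have two : ∀ i j : Fin m ⊕ Fin m, i ≠ j → ∀ x : F, d j * σ x = d i * x := by
    intro i j hij x
    set v : Fin m ⊕ Fin m → F := Pi.single i 1 + x • Pi.single j 1 with hvdef
    have hvi : v i = 1 := by simp [hvdef, hij]
    have hvj : v j = x := by simp [hvdef, Ne.symm hij]
    have hv0 : v ≠ 0 := fun h0 => by simpa [hvi] using congrFun h0 i
    have hi := congrFun (ha v hv0) i
    have hj := congrFun (ha v hv0) j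
    rw [hG, Matrix.mulVec_diagonal] at hi hj
    simp only [σv, hvi, hvj, map_one, mul_one, Pi.smul_apply, smul_eq_mul] at hi hj
    rw [hj, hi]
  have hd : ∀ i j, d i = d j := fun i j => by
    by_cases hij : i = j
    · rw [hij]
    · simpa using (two i j hij 1).symm
  let i₀ : Fin m ⊕ Fin m := Sum.inl ⟨0, hm⟩
  have hd0 : d i₀ ≠ 0 := ha0 _ _
  refine ⟨⟨Units.mk0 _ hd0, gsp_ext ?_⟩, RingEquiv.ext fun x => ?_⟩
  · rw [scalarSim_coe, hG, Matrix.smul_one_eq_diagonal]
    exact congrArg Matrix.diagonal (funext fun i => hd i i₀)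
  · refine mul_left_cancel₀ hd0 ?_
    have := two i₀ (Sum.inr ⟨0, hm⟩) (by simp [i₀]) x
    rwa [hd (Sum.inr ⟨0, hm⟩) i₀] at this

theorem fieldAut_injective (hm : 1 ≤ m) :
    Function.Injective (fieldAut : (F ≃+* F) →* MulAut (Cfsg.PSp m F)) := by
  refine (injective_iff_map_eq_one _).mpr fun σ hσ => ?_
  exact (semilinear_eq_one hm (g := 1) (σ := σ) (by rw [map_one, one_mul, hσ])).2

theorem semilinear_inj (hm : 1 ≤ m) {g g' : ↥(Cfsg.GSp m F)} {σ σ' : F ≃+* F}
    (h : (simAut g * fieldAut σ : MulAut (Cfsg.PSp m F)) = simAut g' * fieldAut σ') :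
    (simAut g : MulAut (Cfsg.PSp m F)) = simAut g' ∧ σ = σ' := by
  have h1 : (simAut (g'⁻¹ * g) * fieldAut (σ * σ'⁻¹) : MulAut (Cfsg.PSp m F)) = 1 := by
    rw [map_mul, map_mul, map_inv, map_inv, mul_assoc, ← mul_assoc (simAut g), h, mul_assoc,
      mul_inv_cancel, mul_one, inv_mul_cancel]
  have h3 : σ = σ' := mul_inv_eq_one.mp (semilinear_eq_one hm h1).2
  refine ⟨?_, h3⟩
  rw [h3] at h
  exact mul_right_cancel h

theorem simAut_eq_one_iff (hm : 1 ≤ m) {g : ↥(Cfsg.GSp m F)} :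
    (simAut g : MulAut (Cfsg.PSp m F)) = 1 ↔ ∃ u, g = scalarSim u := by
  refine ⟨fun h => (semilinear_eq_one hm (σ := 1) (by rw [map_one, mul_one, h])).1, ?_⟩
  rintro ⟨u, rfl⟩
  exact simAut_scalarSim u

theorem simAut_eq_iff (hm : 1 ≤ m) {g h : ↥(Cfsg.GSp m F)} :
    (simAut g : MulAut (Cfsg.PSp m F)) = simAut h ↔ ∃ u, g = scalarSim u * h := by
  constructor
  · intro e
    obtain ⟨u, hu⟩ := (simAut_eq_one_iff hm (g := g * h⁻¹)).mp (by rw [map_mul, map_inv, e, mul_inv_cancel])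
    exact ⟨u, by rw [← hu, inv_mul_cancel_right]⟩
  · rintro ⟨u, rfl⟩
    rw [map_mul, simAut_scalarSim, one_mul]

theorem inn_le : Cfsg.Inn (Cfsg.PSp m F) ≤ (simAut (m := m) (F := F)).range := by
  rintro _ ⟨x, rfl⟩
  obtain ⟨A, rfl⟩ := QuotientGroup.mk_surjective x
  exact ⟨spToGSp A, simAut_spToGSp A⟩

theorem inn_conj {X : Type*} [Group X] (β : MulAut X) {k : MulAut X} (hk : k ∈ Cfsg.Inn X) :
    β * k * β⁻¹ ∈ Cfsg.Inn X := by
  obtain ⟨x, rfl⟩ := hk
  refine ⟨β x, MulEquiv.ext fun y => ?_⟩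
  simp

/-- The index of `Inn` together with the image of a subgroup of `GSp`, read off the multipliers. -/
theorem relIndex_sup_inn (hm : 1 ≤ m) (K : Subgroup ↥(Cfsg.GSp m F)) :
    ((K.map simAut) ⊔ Cfsg.Inn (Cfsg.PSp m F)).relIndex (simAut (m := m) (F := F)).range =
      ((K.map (multHom hm)) ⊔ (powMonoidHom 2 : Fˣ →* Fˣ).range).index := by
  set L : Subgroup Fˣ := (K.map (multHom hm)) ⊔ (powMonoidHom 2 : Fˣ →* Fˣ).range with hL
  have hmap : ((K.map simAut) ⊔ Cfsg.Inn (Cfsg.PSp m F)) = (L.comap (multHom hm)).map simAut := by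
    apply le_antisymm
    · refine sup_le (Subgroup.map_mono fun k hk => ?_) ?_
      · exact Subgroup.mem_sup_left ⟨k, hk, rfl⟩
      · rintro _ ⟨x, rfl⟩
        obtain ⟨A, rfl⟩ := QuotientGroup.mk_surjective x
        refine ⟨spToGSp A, ?_, simAut_spToGSp A⟩
        show multHom hm (spToGSp A) ∈ L
        rw [mult_spToGSp]; exact one_mem _
    · rintro _ ⟨g, hg, rfl⟩
      obtain ⟨_, ⟨k, hk, rfl⟩, _, ⟨u, rfl⟩, hku⟩ := Subgroup.mem_sup.mp (show multHom hm g ∈ _ from hg)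
      obtain ⟨A, hA⟩ := exists_spToGSp hm (g := (scalarSim u)⁻¹ * (k⁻¹ * g)) (by
        rw [map_mul, map_mul, map_inv, map_inv, mult_scalarSim, ← hku, powMonoidHom_apply, sq,
          inv_mul_cancel_left, inv_mul_cancel])
      have : g = k * (scalarSim u * spToGSp A) := by rw [hA]; group
      rw [this, map_mul, map_mul, simAut_scalarSim, one_mul, simAut_spToGSp]
      exact mul_mem (Subgroup.mem_sup_left ⟨k, hk, rfl⟩) (Subgroup.mem_sup_right ⟨_, rfl⟩)
  have hker : (simAut (m := m) (F := F)).ker ≤ L.comap (multHom hm) := by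
    intro g hg
    obtain ⟨u, rfl⟩ := (simAut_eq_one_iff hm).mp hg
    show multHom hm (scalarSim u) ∈ L
    rw [mult_scalarSim]
    exact Subgroup.mem_sup_right ⟨u, sq u⟩
  rw [hmap, MonoidHom.range_eq_map, Subgroup.relIndex_map_map, sup_eq_left.mpr hker, top_sup_eq,
    Subgroup.relIndex_top_right, Subgroup.index_comap_of_surjective _ (multHom_surjective hm)]

theorem index_squares : (powMonoidHom 2 : Fˣ →* Fˣ).range.index = Nat.gcd 2 (Fintype.card F - 1) := by
  rw [IsCyclic.index_powMonoidHom_range, Nat.card_units, Nat.card_eq_fintype_card, Nat.gcd_comm]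

theorem card_range (hm : 1 ≤ m) :
    Nat.card ↥(simAut (m := m) (F := F)).range =
      Nat.card (Cfsg.PSp m F) * Nat.gcd 2 (Fintype.card F - 1) := by
  have h := relIndex_sup_inn hm (⊥ : Subgroup ↥(Cfsg.GSp m F))
  rw [Subgroup.map_bot, Subgroup.map_bot, bot_sup_eq, bot_sup_eq, index_squares] at h
  have hinj : Function.Injective (MulAut.conj : Cfsg.PSp m F →* MulAut (Cfsg.PSp m F)) := by
    refine (injective_iff_map_eq_one _).mpr fun x hx => ?_
    obtain ⟨A, rfl⟩ := QuotientGroup.mk_surjective x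
    rw [← simAut_spToGSp, simAut_eq_one_iff hm] at hx
    obtain ⟨u, hu⟩ := hx
    refine (QuotientGroup.eq_one_iff _).mpr (CfsgLib.Linear.Symp.mem_center_iff.mpr ⟨(u : F), ?_, fun v => ?_⟩)
    · have := congrArg (multHom hm) hu
      rw [mult_spToGSp, mult_scalarSim] at this
      rw [sq, ← Units.val_mul, ← this, Units.val_one]
    · show A.1 *ᵥ v = _
      rw [show A.1 = gMat (spToGSp A) from (spToGSp_coe A).symm, hu, scalarSim_coe, Matrix.smul_mulVec,
        Matrix.one_mulVec]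
  have hcard : Nat.card ↥(Cfsg.Inn (Cfsg.PSp m F)) = Nat.card (Cfsg.PSp m F) :=
    (Nat.card_congr (MonoidHom.ofInjective hinj).toEquiv).symm
  rw [← h, ← hcard, ← Subgroup.relIndex_bot_left, ← Subgroup.relIndex_bot_left,
    Subgroup.relIndex_mul_relIndex _ _ _ bot_le inn_le]

end CfsgLib.AutPSp
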