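import Mathlib
import Cfsg.Agent.Lib.AutPSp.GraphTwo

/-!
The order of `Aut(PSp_{2m}(q))` and the normal form of field automorphisms.
-/

set_option autoImplicit false

namespace CfsgLib.AutPSp

open Matrix Cfsg
open scoped MatrixGroups
open CfsgLib.Linear.Symp
open CfsgLib.AutPSL (card_ringAut ringAut_comm)

variable {F : Type*} [Field F] [Fintype F]

theorem card_semilinear (p f : ℕ) [Fact p.Prime] (hF : Fintype.card F = p ^ f) {m : ℕ} (hm : 1 ≤ m) :
    Nat.card (↥(simAut (m := m) (F := F)).range × (F ≃+* F)) =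
      Nat.gcd 2 (p ^ f - 1) * f * Nat.card (Cfsg.PSp m F) := by
  rw [Nat.card_prod, card_ringAut hF, card_range hm, hF]
  ring

theorem charP_of_card (p f : ℕ) [Fact p.Prime] (hF : Fintype.card F = p ^ f) : CharP F p :=
  (CharP.charP_iff_prime_eq_zero Fact.out).mpr (by
    have h := FiniteField.cast_card_eq_zero F
    rw [hF, Nat.cast_pow] at h
    rcases Nat.eq_zero_or_pos f with rfl | hf
    · simp at h
    · exact (pow_eq_zero_iff hf.ne').mp h)

theorem card_aut (p f : ℕ) [Fact p.Prime] (hF : Fintype.card F = p ^ f) {m : ℕ} (hm : 2 ≤ m)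
    (h22 : m = 2 → 3 ≤ p ^ f) :
    Nat.card (MulAut (Cfsg.PSp m F)) =
      (if m = 2 ∧ p = 2 then 2 else 1) * Nat.gcd 2 (p ^ f - 1) * f * Nat.card (Cfsg.PSp m F) := by
  haveI := charP_of_card p f hF
  have hm1 : 1 ≤ m := by omega
  have hinj : Function.Injective (fun x : ↥(simAut (m := m) (F := F)).range × (F ≃+* F) => x.1.1 * fieldAut x.2) := by
    rintro ⟨⟨a, g, rfl⟩, σ⟩ ⟨⟨b, g', rfl⟩, σ'⟩ h
    obtain ⟨h1, h3⟩ := semilinear_inj hm1 h
    exact Prod.ext (Subtype.ext h1) h3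
  by_cases h4 : m = 2 ∧ p = 2
  · obtain ⟨rfl, rfl⟩ := h4
    have hq : 3 ≤ Fintype.card F := by rw [hF]; exact h22 rfl
    rw [if_pos ⟨rfl, rfl⟩, mul_assoc, mul_assoc, ← mul_assoc (Nat.gcd 2 (2 ^ f - 1)), ← card_semilinear 2 f hF (m := 2) hm1]
    let Φ : Bool × (↥(simAut (m := 2) (F := F)).range × (F ≃+* F)) → MulAut (Cfsg.PSp 2 F) :=
      fun x => (if x.1 then (graphAut hq)⁻¹ else 1) * (x.2.1.1 * fieldAut x.2.2)
    have hne : ∀ (g g' : ↥(Cfsg.GSp 2 F)) (σ σ' : F ≃+* F),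
        (graphAut hq)⁻¹ * (simAut g * fieldAut σ) ≠ simAut g' * fieldAut σ' := by
      intro g g' σ σ' h
      refine graphAut_ne_semilinear hq (g * gspMap (σ * σ'⁻¹) g'⁻¹) (σ * σ'⁻¹) ?_
      calc graphAut hq = (simAut g * fieldAut σ) * (simAut g' * fieldAut σ')⁻¹ := by rw [← h]; group
        _ = simAut g * (fieldAut (σ * σ'⁻¹) * simAut g'⁻¹) := by rw [map_mul, map_inv, map_inv]; group
        _ = _ := by rw [fieldAut_simAut, ← mul_assoc, ← map_mul]
    have hΦ : Function.Bijective Φ := by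
      constructor
      · rintro ⟨e, ⟨⟨a, g, rfl⟩, σ⟩⟩ ⟨e', ⟨⟨b, g', rfl⟩, σ'⟩⟩ h
        simp only [Φ] at h
        cases e <;> cases e' <;> simp only [Bool.false_eq_true, if_false, if_true, one_mul] at h
        · exact Prod.ext rfl (hinj h)
        · exact absurd h.symm (hne g' g σ' σ)
        · exact absurd h (hne g g' σ σ')
        · exact Prod.ext rfl (hinj (mul_left_cancel h))
      · intro β
        obtain ⟨g, σ, h | h⟩ := aut_decomposition_two hq β
        · exact ⟨⟨false, ⟨⟨_, g, rfl⟩, σ⟩⟩, by simp [Φ, h]⟩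
        · exact ⟨⟨true, ⟨⟨_, g, rfl⟩, σ⟩⟩, by simp [Φ, ← h]⟩
    rw [← Nat.card_congr (Equiv.ofBijective Φ hΦ), Nat.card_prod Bool]
    simp
  · rw [if_neg h4, one_mul, ← card_semilinear p f hF hm1, eq_comm]
    exact Nat.card_congr (Equiv.ofBijective _ ⟨hinj, fun β => by
      obtain ⟨g, σ, h⟩ := aut_decomposition p hm (fun e e' => h4 ⟨e, e'⟩) β
      exact ⟨⟨⟨_, g, rfl⟩, σ⟩, h.symm⟩⟩)

/-- A conjugate of a field automorphism is an inner-diagonal conjugate of it. -/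
theorem field_normal_form {m : ℕ} (hm : 2 ≤ m) (hs : m = 2 → 3 ≤ Fintype.card F)
    {x α : MulAut (Cfsg.PSp m F)} {σ : F ≃+* F} (h : α * x * α⁻¹ = fieldAut σ) :
    ∃ g : ↥(Cfsg.GSp m F), x = simAut g * fieldAut σ * (simAut g)⁻¹ := by
  obtain ⟨p, hp⟩ := CharP.exists F
  haveI := hp
  haveI : Fact p.Prime := ⟨CharP.char_is_prime F p⟩
  have hx : x = α⁻¹ * fieldAut σ * α := by rw [← h]; group
  have key : ∀ (β : MulAut (Cfsg.PSp m F)) (g : ↥(Cfsg.GSp m F)) (τ : F ≃+* F), β = simAut g * fieldAut τ →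
      β * fieldAut σ * β⁻¹ = simAut g * fieldAut σ * (simAut g)⁻¹ := by
    rintro β g τ rfl
    rw [_root_.mul_inv_rev, show (simAut g * fieldAut τ * fieldAut σ * ((fieldAut τ)⁻¹ * (simAut g)⁻¹) :
      MulAut (Cfsg.PSp m F)) = simAut g * (fieldAut τ * fieldAut σ) * (fieldAut τ)⁻¹ * (simAut g)⁻¹ by group,
      ← map_mul, ringAut_comm τ σ, map_mul]
    group
  by_cases h4 : m = 2 ∧ p = 2
  · obtain ⟨rfl, rfl⟩ := h4
    obtain ⟨g, τ, hd⟩ := aut_decomposition_two (hs rfl) α⁻¹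
    rcases hd with hd | hd
    · exact ⟨g, by rw [hx, ← key _ g τ hd, inv_inv]⟩
    · set γ := graphAut (hs rfl) with hγ
      obtain ⟨y, hy⟩ : ∃ y : Cfsg.PSp 2 F, (simAut g : MulAut (Cfsg.PSp 2 F)) = MulAut.conj y := by
        obtain ⟨u, hu⟩ : ∃ u : Fˣ, u * u = multHom (m := 2) (by omega) g := by
          obtain ⟨r, hr⟩ := FiniteField.isSquare_of_char_two (ringChar.eq F 2) ((multHom (m := 2) (by omega) g : Fˣ) : F)
          exact ⟨Units.mk0 r (fun h0 => (multHom (m := 2) (by omega) g).ne_zero (by rw [hr, h0, mul_zero])),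
            Units.ext hr.symm⟩
        obtain ⟨A, hA⟩ := exists_spToGSp (by omega) (g := (scalarSim u)⁻¹ * g)
          (by rw [map_mul, map_inv, mult_scalarSim, hu, inv_mul_cancel])
        refine ⟨QuotientGroup.mk A, ?_⟩
        rw [← simAut_spToGSp, hA, map_mul, map_inv, simAut_scalarSim, inv_one, one_mul]
      have hγσ : γ⁻¹ * fieldAut σ * γ = fieldAut σ := by
        rw [mul_assoc, ← graphAut_fieldAut (hs rfl) σ, inv_mul_cancel_left]
      have hconj : γ⁻¹ * MulAut.conj y * γ = MulAut.conj (γ⁻¹ y) := by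
        refine MulEquiv.ext fun z => ?_
        simp
      have hα : α = (γ⁻¹ * (simAut g * fieldAut τ))⁻¹ := by rw [← hd]; group
      obtain ⟨A', hA'⟩ := QuotientGroup.mk_surjective (γ⁻¹ y : Cfsg.PSp 2 F)
      refine ⟨spToGSp A', ?_⟩
      rw [simAut_spToGSp, hA', ← hconj, hx, hα, inv_inv]
      calc γ⁻¹ * (simAut g * fieldAut τ) * fieldAut σ * (γ⁻¹ * (simAut g * fieldAut τ))⁻¹ =
            γ⁻¹ * ((simAut g * fieldAut τ) * fieldAut σ * (simAut g * fieldAut τ)⁻¹) * γ := by group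
        _ = γ⁻¹ * (MulAut.conj y * fieldAut σ * (MulAut.conj y)⁻¹) * γ := by rw [key _ g τ rfl, hy]
        _ = γ⁻¹ * MulAut.conj y * γ * (γ⁻¹ * fieldAut σ * γ) * (γ⁻¹ * MulAut.conj y * γ)⁻¹ := by group
        _ = _ := by rw [hγσ]
  · obtain ⟨g, τ, hd⟩ := aut_decomposition p hm (fun e e' => h4 ⟨e, e'⟩) α⁻¹
    exact ⟨g, by rw [hx, ← key _ g τ hd, inv_inv]⟩

end CfsgLib.AutPSp
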