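import Mathlib
import Cfsg.Agent.Lib.AutPSp.CardAut
import Cfsg.Agent.Lib.AutPSL.FieldAut
import Cfsg.Agent.Lib.AutPSL.Split
import Cfsg.Agent.Lib.AutPSL.Congr
import Cfsg.Agent.Lib.AutPSL.Coset

/-!
Field automorphisms of prime order of `PSp_{2m}`: the coset, the centraliser and class splitting.
-/

set_option autoImplicit false

namespace CfsgLib.AutPSp

open Matrix Cfsg
open scoped MatrixGroups
open CfsgLib.Linear.Symp
open CfsgLib.AutPSL (fixedField mem_fixedField exists_norm_eq semilinear_fixed_span splitClassCount_congr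
  splitClassCount_eq_relIndex centralizer_equiv_of_conj exists_equiv_fixedField fixedField_card congr_alternating Congr)

variable {m : ℕ} {F : Type*} [Field F]

/-- The semilinear map `v ↦ g σ(v)`. -/
def semiSp (g : ↥(Cfsg.GSp m F)) (σ : F ≃+* F) (v : Fin m ⊕ Fin m → F) : Fin m ⊕ Fin m → F :=
  gMat g *ᵥ fun i => σ (v i)

theorem semiSp_smul (g : ↥(Cfsg.GSp m F)) (σ : F ≃+* F) (c : F) (v : Fin m ⊕ Fin m → F) :
    semiSp g σ (c • v) = σ c • semiSp g σ v := by
  rw [semiSp, semiSp, ← Matrix.mulVec_smul]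
  congr 1; funext i; simp

theorem semiSp_mulVec (g h : ↥(Cfsg.GSp m F)) (σ : F ≃+* F) (v : Fin m ⊕ Fin m → F) :
    semiSp g σ (gMat h *ᵥ v) = gMat (g * gspMap σ h) *ᵥ fun i => σ (v i) := by
  rw [semiSp, gMat_mul, ← Matrix.mulVec_mulVec]
  congr 1
  funext i
  show σ.toRingHom ((gMat h *ᵥ v) i) = ((gMat h).map σ.toRingHom *ᵥ fun i => σ.toRingHom (v i)) i
  rw [RingHom.map_mulVec]
  rfl

theorem pow_semiSp (g : ↥(Cfsg.GSp m F)) (σ : F ≃+* F) (r : ℕ) :
    ∃ P : ↥(Cfsg.GSp m F), (simAut g * fieldAut σ : MulAut (Cfsg.PSp m F)) ^ r = simAut P * fieldAut (σ ^ r) ∧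
      ∀ v, (semiSp g σ)^[r] v = gMat P *ᵥ fun i => (σ ^ r) (v i) := by
  induction r with
  | zero =>
    refine ⟨1, by simp, fun v => ?_⟩
    simp only [Function.iterate_zero, id, pow_zero]
    show v = (1 : Mat m F) *ᵥ _
    rw [Matrix.one_mulVec]; rfl
  | succ r ih =>
    obtain ⟨P, hP, hit⟩ := ih
    refine ⟨g * gspMap σ P, ?_, fun v => ?_⟩
    · rw [pow_succ', hP, pow_succ', map_mul fieldAut, map_mul simAut,
        show (simAut g * fieldAut σ * (simAut P * fieldAut (σ ^ r)) : MulAut (Cfsg.PSp m F)) =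
          simAut g * (fieldAut σ * simAut P) * fieldAut (σ ^ r) by group, fieldAut_simAut]
      group
    · rw [Function.iterate_succ_apply', hit, semiSp_mulVec, pow_succ']
      rfl

theorem form_semiSp (g : ↥(Cfsg.GSp m F)) (σ : F ≃+* F) (u v : Fin m ⊕ Fin m → F) :
    sympForm m F (semiSp g σ u) (semiSp g σ v) = (mult g : F) * σ (sympForm m F u v) := by
  unfold semiSp sympForm
  rw [← Matrix.vecMul_transpose, ← Matrix.dotProduct_mulVec, Matrix.mulVec_mulVec, Matrix.mulVec_mulVec,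
    mult_spec g, Matrix.smul_mulVec, dotProduct_smul, smul_eq_mul]
  congr 1
  have hJ : ∀ i j, σ (Matrix.J (Fin m) F i j) = Matrix.J (Fin m) F i j := fun i j =>
    congrFun (congrFun (J_map σ) i) j
  simp [dotProduct, Matrix.mulVec, map_sum, map_mul, hJ]

variable [Fintype F]

/-- Elements of order `r = orderOf σ` of the coset of `fieldAut σ` are conjugates of it by similitudes. -/
theorem field_coset_conj (hm : 1 ≤ m) {σ : F ≃+* F} {r : ℕ} (hr : orderOf σ = r) {g : ↥(Cfsg.GSp m F)}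
    (hy : (simAut g * fieldAut σ : MulAut (Cfsg.PSp m F)) ^ r = 1) :
    ∃ h : ↥(Cfsg.GSp m F),
      (simAut g * fieldAut σ : MulAut (Cfsg.PSp m F)) = simAut h * fieldAut σ * (simAut h)⁻¹ := by
  have hσr : σ ^ r = 1 := by rw [← hr]; exact pow_orderOf_eq_one σ
  obtain ⟨P, hP, hit⟩ := pow_semiSp g σ r
  rw [hP, hσr, map_one, mul_one] at hy
  obtain ⟨c, rfl⟩ := (simAut_eq_one_iff hm).mp hy
  have hiter : ∀ v, (semiSp g σ)^[r] v = (c : F) • v := by
    intro v
    rw [hit, scalarSim_coe, hσr, Matrix.smul_mulVec, Matrix.one_mulVec]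
    rfl
  let i₀ : Fin m := ⟨0, hm⟩
  have hinj : ∀ v, semiSp g σ v = 0 → v = 0 := by
    intro v hv
    have h0 := congrArg ((((g : GL (Fin m ⊕ Fin m) F)⁻¹ : GL (Fin m ⊕ Fin m) F) : Mat m F) *ᵥ ·) hv
    simp only [semiSp, Matrix.mulVec_mulVec, Units.inv_mul, Matrix.one_mulVec, Matrix.mulVec_zero] at h0
    funext i
    exact σ.injective ((congrFun h0 i).trans (map_zero σ).symm)
  have hσc : σ (c : F) = c := by
    set e : Fin m ⊕ Fin m → F := Pi.single (Sum.inl i₀) 1
    have h1 : (semiSp g σ)^[r] (semiSp g σ e) = semiSp g σ ((semiSp g σ)^[r] e) := by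
      rw [← Function.iterate_succ_apply, Function.iterate_succ_apply']
    rw [hiter, hiter, semiSp_smul] at h1
    have h2 : ((c : F) - σ c) • semiSp g σ e = 0 := by rw [sub_smul, h1, sub_self]
    rcases smul_eq_zero.mp h2 with h3 | h3
    · exact (sub_eq_zero.mp h3).symm
    · simpa [e] using congrFun (hinj _ h3) (Sum.inl i₀)
  obtain ⟨x, hx⟩ := exists_norm_eq σ hr (c := (c : F)⁻¹) (by rw [map_inv₀, hσc])
  let φ : (Fin m ⊕ Fin m → F) → Fin m ⊕ Fin m → F := fun v => x • semiSp g σ v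
  have hφsmul : ∀ (b : F) v, φ (b • v) = σ b • φ v := fun b v => by
    simp only [φ, semiSp_smul]; rw [smul_comm]
  have hφit : ∀ k v, φ^[k] v = (∏ i ∈ Finset.range k, (σ ^ i) x) • (semiSp g σ)^[k] v := by
    intro k v
    induction k with
    | zero => simp
    | succ k ih =>
      rw [Function.iterate_succ_apply', ih, hφsmul]
      simp only [φ]
      rw [← Function.iterate_succ_apply' (semiSp g σ), smul_smul]
      congr 1
      rw [Finset.prod_range_succ', map_prod, pow_zero]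
      congr 1
      exact Finset.prod_congr rfl fun i _ => by rw [pow_succ']; rfl
  have hper : ∀ v, φ^[r] v = v := fun v => by
    rw [hφit, hx, hiter, smul_smul, inv_mul_cancel₀ c.ne_zero, one_smul]
  have hadd : ∀ u v, φ (u + v) = φ u + φ v := fun u v => by
    simp only [φ, semiSp, ← smul_add, ← Matrix.mulVec_add]
    congr 2; funext i; simp
  let ν : F := x * x * (mult g : F)
  have hform : ∀ u v, sympForm m F (φ u) (φ v) = ν * σ (sympForm m F u v) := fun u v => by
    simp only [φ, ν, form_smul_left, form_smul_right, form_semiSp]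
    ring
  obtain ⟨η, hη0, hη⟩ : ∃ η : F, η ≠ 0 ∧ ν * σ η = η := by
    have hper' : ∀ a : F, (fun a : F => ν * σ a)^[orderOf σ] a = a := by
      intro a
      set e : Fin m ⊕ Fin m → F := Pi.single (Sum.inr i₀) a
      set f : Fin m ⊕ Fin m → F := Pi.single (Sum.inl i₀) 1
      have hk : ∀ k, sympForm m F (φ^[k] e) (φ^[k] f) = (fun a : F => ν * σ a)^[k] (sympForm m F e f) := by
        intro k
        induction k with
        | zero => rfl
        | succ k ih => rw [Function.iterate_succ_apply', Function.iterate_succ_apply', hform, ih,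
            Function.iterate_succ_apply']
      have hef : sympForm m F e f = a := by simp [e, f, form_single_inl]
      have := hk r
      rw [hper, hper, hef] at this
      rw [hr]; exact this.symm
    have hsp := semilinear_fixed_span σ (V := F) (fun a : F => ν * σ a) (fun u v => by simp [mul_add])
      (fun a v => by simp [mul_left_comm]) hper'
    by_contra hno
    push Not at hno
    have hbot : Submodule.span F {v : F | ν * σ v = v} = ⊥ := Submodule.span_eq_bot.mpr fun v hv => by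
      by_contra h0; exact hno v h0 hv
    rw [hbot] at hsp
    exact bot_ne_top hsp
  have hspan := semilinear_fixed_span σ φ hadd hφsmul (fun v => by rw [hr, hper])
  obtain ⟨b, hbS, hbspan, hbli⟩ := exists_linearIndependent F {v | φ v = v}
  let B := Module.Basis.mk hbli (by rw [Subtype.range_coe, hbspan, hspan])
  haveI : Fintype b := FiniteDimensional.fintypeBasisIndex B
  have hbn : Fintype.card b = Fintype.card (Fin m ⊕ Fin m) := by
    rw [← Module.finrank_eq_card_basis B, Module.finrank_fintype_fun_eq_card]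
  let e : (Fin m ⊕ Fin m) ≃ b := Fintype.equivOfCardEq hbn.symm
  let H : Mat m F := Matrix.of fun i j => (e j).1 i
  have hH : IsUnit H.det := by
    rw [← Matrix.isUnit_iff_isUnit_det, ← Matrix.linearIndependent_cols_iff_isUnit]
    exact hbli.comp e e.injective
  -- the Gram matrix over the fixed field
  have hM₀ : ∀ i j, η⁻¹ * sympForm m F (e i).1 (e j).1 ∈ fixedField σ := by
    intro i j
    rw [mem_fixedField, map_mul, map_inv₀]
    have h1 := hform (e i).1 (e j).1
    rw [show φ (e i).1 = (e i).1 from hbS (e i).2, show φ (e j).1 = (e j).1 from hbS (e j).2] at h1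
    have hν : ν ≠ 0 := fun h0 => hη0 (by rw [← hη, h0, zero_mul])
    have : σ η ≠ 0 := by simpa using hη0
    conv_rhs => rw [h1, ← hη]
    field_simp
  let K := fixedField σ
  let ι : ↥K →+* F := K.subtype
  let M₀ : Matrix (Fin m ⊕ Fin m) (Fin m ⊕ Fin m) ↥K :=
    Matrix.of fun i j => ⟨η⁻¹ * sympForm m F (e i).1 (e j).1, hM₀ i j⟩
  have hgram : Hᵀ * Matrix.J (Fin m) F * H = η • M₀.map ι := by
    ext i j
    show _ = η * (η⁻¹ * sympForm m F (e i).1 (e j).1)
    rw [mul_inv_cancel_left₀ hη0, Matrix.mul_assoc]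
    rfl
  have hMdet : M₀.det ≠ 0 := by
    intro h0
    have h1 := congrArg Matrix.det hgram
    rw [Matrix.det_smul, ← RingHom.mapMatrix_apply, ← RingHom.map_det, h0, map_zero, mul_zero, Matrix.det_mul,
      Matrix.det_mul, Matrix.det_transpose] at h1
    have hJ0 : (Matrix.J (Fin m) F).det ≠ 0 := by
      intro h2
      have := Matrix.J_det_mul_J_det (Fin m) F
      rw [h2, mul_zero] at this
      exact zero_ne_one this
    exact mul_ne_zero (mul_ne_zero hH.ne_zero hJ0) hH.ne_zero h1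
  obtain ⟨m', hm', hC⟩ := congr_alternating (M := M₀)
    (fun i => Subtype.ext (by show η⁻¹ * _ = 0; rw [form_self, mul_zero]))
    (by ext i j; show η⁻¹ * _ = -(η⁻¹ * _); rw [form_swap (e i).1, mul_neg]) hMdet
  have hmm : m' = m := by simp at hm'; omega
  subst hmm
  obtain ⟨Q, Q', hQQ', hQ'Q, hQ⟩ := hC
  let H₂ : Mat m' F := H * Q.map ι
  have hH₂ : H₂ᵀ * Matrix.J (Fin m') F * H₂ = η • Matrix.J (Fin m') F := by
    have hJι : (Matrix.J (Fin m') ↥K).map ι = Matrix.J (Fin m') F := by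
      ext (i | i) (j | j) <;> simp [Matrix.J, Matrix.one_apply, apply_ite ι]
    calc H₂ᵀ * Matrix.J (Fin m') F * H₂ = (Q.map ι)ᵀ * (Hᵀ * Matrix.J (Fin m') F * H) * Q.map ι := by
          simp only [H₂, Matrix.transpose_mul, Matrix.mul_assoc]
      _ = η • ((Qᵀ * M₀ * Q).map ι) := by
          rw [hgram, Matrix.mul_smul, Matrix.smul_mul, Matrix.map_mul, Matrix.map_mul, Matrix.transpose_map]
      _ = _ := by rw [hQ, hJι]
  have hfix : x • (gMat g * H₂.map σ) = H₂ := by
    have hQσ : (Q.map ι).map σ = Q.map ι := by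
      ext i j; exact (mem_fixedField σ).mp (Q i j).2
    have hH' : x • (gMat g * H.map σ) = H := by
      ext i j
      have h1 := congrFun (hbS (e j).2 : φ (e j).1 = (e j).1) i
      show x • ((gMat g * H.map σ) i j) = (e j).1 i
      rw [← h1]
      rfl
    show x • (gMat g * (H * Q.map ι).map σ.toRingHom) = _
    rw [Matrix.map_mul, show (Q.map ι).map σ.toRingHom = Q.map ι from hQσ, ← Matrix.mul_assoc, ← Matrix.smul_mul]
    exact congrArg (· * Q.map ι) hH'
  have hdet : IsUnit H₂.det := by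
    rw [Matrix.det_mul]
    refine hH.mul ?_
    have h1 := congrArg (fun A : Matrix _ _ ↥K => (A.map ι).det) hQQ'
    simp only [Matrix.map_mul, Matrix.det_mul, Matrix.map_one _ (map_zero ι) (map_one ι), Matrix.det_one] at h1
    exact IsUnit.of_mul_eq_one _ h1
  let h : ↥(Cfsg.GSp m' F) := ⟨H₂.nonsingInvUnit hdet, mem_GSp_iff.mpr ⟨Units.mk0 η hη0, hH₂⟩⟩
  have hx0 : x ≠ 0 := by
    rintro rfl
    rw [zero_smul] at hfix
    haveI : Nonempty (Fin m' ⊕ Fin m') := ⟨Sum.inl ⟨0, hm⟩⟩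
    exact hdet.ne_zero (by rw [← hfix]; exact Matrix.det_zero)
  have hu : scalarSim (Units.mk0 x hx0) * g * gspMap σ h = h := by
    refine gsp_ext ?_
    rw [gMat_mul, gMat_mul, scalarSim_coe, Matrix.smul_mul, Matrix.one_mul, Matrix.smul_mul]
    exact hfix
  refine ⟨h, ?_⟩
  have hd : (simAut g : MulAut (Cfsg.PSp m' F)) = simAut h * (simAut (gspMap σ h))⁻¹ := by
    have h1 := congrArg (simAut (m := m') (F := F)) hu
    rw [map_mul, map_mul, simAut_scalarSim, one_mul] at h1
    rw [← h1, mul_inv_cancel_right]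
  rw [hd, ← map_inv, ← map_inv simAut h, ← map_inv (gspMap σ), mul_assoc, ← fieldAut_simAut, ← mul_assoc]

theorem orderOf_fieldAut (hm : 1 ≤ m) (σ : F ≃+* F) :
    orderOf (fieldAut σ : MulAut (Cfsg.PSp m F)) = orderOf σ :=
  orderOf_injective _ (fieldAut_injective hm) σ

theorem normal_form {x : MulAut (Cfsg.PSp m F)} (hm : 2 ≤ m) (hs : m = 2 → 3 ≤ Fintype.card F)
    (hx : Cfsg.IsFieldAutClassPSp x) {r : ℕ} (hxr : orderOf x = r) :
    ∃ (g : ↥(Cfsg.GSp m F)) (σ : F ≃+* F), orderOf σ = r ∧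
      x = simAut g * fieldAut σ * (simAut g)⁻¹ := by
  obtain ⟨α, σ, -, hstd⟩ := hx
  rw [isStdFieldAutPSp_iff] at hstd
  obtain ⟨g, hg⟩ := field_normal_form hm hs hstd
  refine ⟨g, σ, ?_, hg⟩
  rw [← hxr, hg, CfsgLib.AutPSL.orderOf_conj_eq, orderOf_fieldAut (by omega)]

theorem orderOf_coset_iff (hm : 2 ≤ m) (hs : m = 2 → 3 ≤ Fintype.card F) {x δ : MulAut (Cfsg.PSp m F)}
    (hx : Cfsg.IsFieldAutClassPSp x) {r : ℕ}
    (hxr : orderOf x = r) (hδ : δ ∈ Cfsg.inndiagPSp m F) :
    orderOf (δ * x) = r ↔ Cfsg.IsConjUnder (Cfsg.inndiagPSp m F) x (δ * x) := by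
  refine ⟨fun hy => ?_, fun h => ?_⟩
  swap
  · obtain ⟨a, -, ha⟩ := h
    rw [ha, CfsgLib.AutPSL.orderOf_conj_eq, hxr]
  rw [inndiagPSp_eq] at hδ ⊢
  obtain ⟨d, rfl⟩ := hδ
  obtain ⟨h₀, σ, hσ, hx0⟩ := normal_form hm hs hx hxr
  obtain ⟨h₁, hh₁⟩ := field_coset_conj (by omega) hσ (g := h₀⁻¹ * d * h₀) (by
    rw [map_mul, map_mul, map_inv]
    have hyr : (simAut d * x) ^ r = 1 := by rw [← hy]; exact pow_orderOf_eq_one _
    have he : ((simAut h₀)⁻¹ * simAut d * simAut h₀ * fieldAut σ : MulAut (Cfsg.PSp m F)) =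
        (simAut h₀)⁻¹ * (simAut d * x) * (simAut h₀)⁻¹⁻¹ := by rw [hx0]; group
    rw [he, conj_pow, hyr]; group)
  refine ⟨simAut h₀ * simAut h₁ * (simAut h₀)⁻¹, ⟨h₀ * h₁ * h₀⁻¹, by rw [map_mul, map_mul, map_inv]⟩, ?_⟩
  rw [map_mul, map_mul, map_inv] at hh₁
  calc simAut d * x = simAut h₀ * ((simAut h₀)⁻¹ * simAut d * simAut h₀ * fieldAut σ) * (simAut h₀)⁻¹ := by
        rw [hx0]; group
    _ = _ := by rw [hh₁, hx0]; group

end CfsgLib.AutPSp
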