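import Mathlib
import Cfsg.Agent.Lib.AutPSp.Classes
import Cfsg.Agent.Lib.AutPSL.FieldCentral

/-!
Centraliser and class splitting of field automorphisms of prime order of `PSp_{2m}`.
-/

set_option autoImplicit false

namespace CfsgLib.AutPSp

open Matrix Cfsg
open scoped MatrixGroups
open CfsgLib.Linear.Symp
open CfsgLib.AutPSL (fixedField mem_fixedField splitClassCount_congr isConjUnder_symm
  splitClassCount_eq_relIndex centralizer_equiv_of_conj exists_equiv_fixedField fixedField_card index_baseUnits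
  index_sup_cyclic exists_scalar_fixed)

variable {m : ℕ} {F : Type*} [Field F] {F₀ : Type*} [Field F₀]

theorem baseSp_mem (ι : F₀ →+* F) {A : GL (Fin m ⊕ Fin m) F₀} (hA : A ∈ Cfsg.GSp m F₀) :
    Matrix.GeneralLinearGroup.map ι A ∈ Cfsg.GSp m F := by
  obtain ⟨c, hc⟩ := mem_GSp_iff.mp hA
  refine mem_GSp_iff.mpr ⟨Units.map ι.toMonoidHom c, ?_⟩
  have h := congrArg (fun M : Mat m F₀ => M.map ι) hc
  have hJ : (Matrix.J (Fin m) F₀).map ι = Matrix.J (Fin m) F := by
    ext (i | i) (j | j) <;> simp [Matrix.J, Matrix.one_apply, apply_ite ι]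
  simp only [Matrix.map_mul, ← Matrix.transpose_map] at h
  rw [Matrix.map_smul' ι _ _ (map_mul _), hJ] at h
  exact h

/-- `GSp` of a subfield inside `GSp`. -/
def baseSim (ι : F₀ →+* F) : ↥(Cfsg.GSp m F₀) →* ↥(Cfsg.GSp m F) :=
  ((Matrix.GeneralLinearGroup.map ι).comp (Cfsg.GSp m F₀).subtype).codRestrict _ fun A => baseSp_mem ι A.2

theorem baseSim_coe (ι : F₀ →+* F) (A : ↥(Cfsg.GSp m F₀)) : gMat (baseSim ι A) = (gMat A).map ι := rfl

theorem mult_baseSim (hm : 1 ≤ m) (ι : F₀ →+* F) (A : ↥(Cfsg.GSp m F₀)) :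
    multHom hm (baseSim ι A) = Units.map ι.toMonoidHom (multHom hm A) :=
  mult_eq hm (by
    have h := congrArg (fun M : Mat m F₀ => M.map ι) (mult_spec A)
    have hJ : (Matrix.J (Fin m) F₀).map ι = Matrix.J (Fin m) F := by
      ext (i | i) (j | j) <;> simp [Matrix.J, Matrix.one_apply, apply_ite ι]
    simp only [Matrix.map_mul, ← Matrix.transpose_map] at h
    rw [Matrix.map_smul' ι _ _ (map_mul _), hJ] at h
    exact h)

variable [Fintype F]

/-- The preimage in `GSp` of the centraliser of `fieldAut σ`. -/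
def simCentralizer (σ : F ≃+* F) : Subgroup ↥(Cfsg.GSp m F) :=
  (Subgroup.centralizer {(fieldAut σ : MulAut (Cfsg.PSp m F))}).comap simAut

omit [Fintype F] in
theorem inndiag_inf_centralizer (σ : F ≃+* F) :
    Cfsg.inndiagPSp m F ⊓ Subgroup.centralizer {(fieldAut σ : MulAut (Cfsg.PSp m F))} =
      (simCentralizer σ).map simAut := by
  rw [inndiagPSp_eq, simCentralizer, Subgroup.map_comap_eq]

theorem simCentralizer_eq (hm : 1 ≤ m) (σ : F ≃+* F) (ι : F₀ →+* F)
    (hι : ∀ a, σ (ι a) = ι a) (hι' : ∀ x, σ x = x → ∃ a, ι a = x) :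
    simCentralizer σ = (scalarSim (F := F) (m := m)).range ⊔ (baseSim ι).range := by
  apply le_antisymm
  · intro g hg
    have h1 : simAut g * fieldAut σ = fieldAut σ * simAut g := Subgroup.mem_centralizer_singleton_iff.mp hg
    rw [fieldAut_simAut, mul_left_inj, eq_comm, simAut_eq_iff hm] at h1
    obtain ⟨u, hu⟩ := h1
    have hent : ∀ i j, σ (gMat g i j) = (u : F) * gMat g i j := fun i j => by
      have h2 := congrFun (congrFun (congrArg gMat hu) i) j
      rw [gMat_mul, scalarSim_coe, Matrix.smul_mul, Matrix.one_mul] at h2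
      exact h2
    obtain ⟨i₀, j₀, h0⟩ : ∃ i j, gMat g i j ≠ 0 := by
      by_contra hcon
      simp only [not_exists, not_not] at hcon
      have := mult_spec g
      rw [show gMat g = 0 from Matrix.ext hcon, Matrix.mul_zero] at this
      have h2 := congrFun (congrFun this (Sum.inr ⟨0, hm⟩)) (Sum.inl ⟨0, hm⟩)
      rw [Matrix.smul_apply, J_entry, smul_eq_mul, mul_one] at h2
      exact (mult g).ne_zero h2.symm
    set e := gMat g i₀ j₀ with he
    have hfix : ∀ i j, σ (e⁻¹ * gMat g i j) = e⁻¹ * gMat g i j := fun i j => by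
      rw [map_mul, map_inv₀, hent, hent, ← he]
      field_simp
    choose a ha using fun i j => hι' _ (hfix i j)
    have hgA : gMat g = e • (Matrix.of a).map ι := by
      ext i j
      rw [Matrix.smul_apply, Matrix.map_apply, Matrix.of_apply, ha, smul_eq_mul, mul_inv_cancel_left₀ h0]
    have hdet : IsUnit (Matrix.of a).det := by
      refine isUnit_iff_ne_zero.mpr fun hz => ?_
      have h3 := congrArg Matrix.det hgA
      rw [Matrix.det_smul, ← RingHom.mapMatrix_apply, ← RingHom.map_det, hz, map_zero, mul_zero] at h3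
      exact (g : GL (Fin m ⊕ Fin m) F).det.ne_zero h3
    have hJ : (Matrix.J (Fin m) F₀).map ι = Matrix.J (Fin m) F := by
      ext (i | i) (j | j) <;> simp [Matrix.J, Matrix.one_apply, apply_ite ι]
    have hform : ((Matrix.of a)ᵀ * Matrix.J (Fin m) F₀ * Matrix.of a).map ι =
        ((mult g : F) / (e * e)) • Matrix.J (Fin m) F := by
      have h4 := mult_spec g
      rw [hgA, Matrix.transpose_smul, Matrix.smul_mul, Matrix.smul_mul, Matrix.mul_smul, smul_smul] at h4
      rw [Matrix.map_mul, Matrix.map_mul, hJ, Matrix.transpose_map]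
      rw [div_eq_inv_mul, ← smul_smul, ← h4, smul_smul, inv_mul_cancel₀ (mul_ne_zero h0 h0), one_smul]
    set c₀ : F₀ := ((Matrix.of a)ᵀ * Matrix.J (Fin m) F₀ * Matrix.of a) (Sum.inr ⟨0, hm⟩) (Sum.inl ⟨0, hm⟩) with hc₀
    have hc₀' : ι c₀ = (mult g : F) / (e * e) := by
      have h5 := congrFun (congrFun hform (Sum.inr ⟨0, hm⟩)) (Sum.inl ⟨0, hm⟩)
      rw [Matrix.map_apply, ← hc₀, Matrix.smul_apply, J_entry, smul_eq_mul, mul_one] at h5
      exact h5
    have hc₀0 : c₀ ≠ 0 := fun hz => by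
      rw [hz, map_zero, eq_comm, div_eq_zero_iff] at hc₀'
      exact hc₀'.elim (mult g).ne_zero (mul_ne_zero h0 h0)
    let A : ↥(Cfsg.GSp m F₀) := ⟨(Matrix.of a).nonsingInvUnit hdet, mem_GSp_iff.mpr ⟨Units.mk0 c₀ hc₀0, by
      refine Matrix.ext fun i j => ι.injective ?_
      have h6 := congrFun (congrFun hform i) j
      rw [Matrix.map_apply] at h6
      refine h6.trans ?_
      rw [← hc₀', Matrix.smul_apply, ← hJ, Matrix.map_apply, Units.val_mk0, Matrix.smul_apply, smul_eq_mul,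
        smul_eq_mul, map_mul]⟩⟩
    have : g = scalarSim (Units.mk0 e h0) * baseSim ι A := by
      refine gsp_ext ?_
      rw [gMat_mul, scalarSim_coe, baseSim_coe, Matrix.smul_mul, Matrix.one_mul]
      exact hgA
    rw [this]
    exact mul_mem (Subgroup.mem_sup_left ⟨_, rfl⟩) (Subgroup.mem_sup_right ⟨A, rfl⟩)
  · refine sup_le ?_ ?_
    · rintro _ ⟨u, rfl⟩
      show simAut (scalarSim u) ∈ Subgroup.centralizer {(fieldAut σ : MulAut (Cfsg.PSp m F))}
      rw [simAut_scalarSim]; exact one_mem _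
    · rintro _ ⟨A, rfl⟩
      refine Subgroup.mem_centralizer_singleton_iff.mpr ?_
      have : gspMap σ (baseSim ι A) = baseSim ι A := gsp_ext (Matrix.ext fun i j => hι _)
      rw [fieldAut_simAut, this]

theorem centralizer_equiv (hm : 1 ≤ m) (σ : F ≃+* F) (ι : F₀ →+* F)
    (hι : ∀ a, σ (ι a) = ι a) (hι' : ∀ x, σ x = x → ∃ a, ι a = x) :
    Nonempty (↥(Cfsg.inndiagPSp m F ⊓ Subgroup.centralizer {(fieldAut σ : MulAut (Cfsg.PSp m F))}) ≃*
      Cfsg.PGSp m F₀) := by
  let ψ : ↥(Cfsg.GSp m F₀) →* MulAut (Cfsg.PSp m F) := simAut.comp (baseSim ι)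
  have hrange : ψ.range = Cfsg.inndiagPSp m F ⊓ Subgroup.centralizer {fieldAut σ} := by
    rw [inndiag_inf_centralizer, simCentralizer_eq hm σ ι hι hι', Subgroup.map_sup, MonoidHom.map_range,
      MonoidHom.map_range]
    refine (sup_eq_right.mpr ?_).symm
    rintro _ ⟨u, rfl⟩
    show simAut (scalarSim u) ∈ _
    rw [simAut_scalarSim]
    exact one_mem _
  have hker : ψ.ker = (Cfsg.Geo.scalars (Fin m ⊕ Fin m) F₀).subgroupOf (Cfsg.GSp m F₀) := by
    ext A
    rw [MonoidHom.mem_ker, Subgroup.mem_subgroupOf, Cfsg.Geo.mem_scalars_iff]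
    show simAut (baseSim ι A) = 1 ↔ _
    rw [simAut_eq_one_iff hm]
    constructor
    · rintro ⟨u, hu⟩
      have h2 : (gMat A).map ι = (u : F) • (1 : Mat m F) := by
        rw [← baseSim_coe, hu, scalarSim_coe]
      let x₀ : Fin m ⊕ Fin m := Sum.inl ⟨0, hm⟩
      have h3 : ι (gMat A x₀ x₀) = u := by
        have := congrFun (congrFun h2 x₀) x₀
        simpa using this
      have h4 : gMat A x₀ x₀ ≠ 0 := fun hz => u.ne_zero (by rw [← h3, hz, map_zero])
      refine ⟨Units.mk0 _ h4, Matrix.ext fun i j => ι.injective ?_⟩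
      have h5 := congrFun (congrFun h2 i) j
      rw [Matrix.map_apply] at h5
      refine h5.trans ?_
      by_cases hij : i = j
      · subst hij; simp [h3]
      · simp [hij]
    · rintro ⟨u, hu⟩
      refine ⟨Units.map ι.toMonoidHom u, gsp_ext ?_⟩
      rw [baseSim_coe, show gMat A = _ from hu, scalarSim_coe]
      ext i j
      by_cases hij : i = j
      · subst hij; simp
      · simp [hij]
  exact ⟨((QuotientGroup.quotientMulEquivOfEq hker.symm).trans
    ((QuotientGroup.quotientKerEquivRange ψ).trans (MulEquiv.subgroupCongr hrange))).symm⟩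

theorem split_count [Fintype F₀] (hm : 1 ≤ m) (σ : F ≃+* F) (ι : F₀ →+* F)
    (hι : ∀ a, σ (ι a) = ι a) (hι' : ∀ x, σ x = x → ∃ a, ι a = x) :
    Cfsg.splitClassCount (Cfsg.inndiagPSp m F) (Cfsg.Inn (Cfsg.PSp m F)) (fieldAut σ) =
      Nat.gcd ((Fintype.card F - 1) / (Fintype.card F₀ - 1)) (Nat.gcd 2 (Fintype.card F - 1)) := by
  rw [splitClassCount_eq_relIndex _ _ (by rw [inndiagPSp_eq]; exact inn_le) (fun h _ k hk => inn_conj h hk),
    inndiag_inf_centralizer, inndiagPSp_eq, relIndex_sup_inn hm, simCentralizer_eq hm σ ι hι hι', Subgroup.map_sup,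
    MonoidHom.map_range, MonoidHom.map_range]
  have h1 : ((multHom hm).comp (scalarSim (F := F) (m := m))).range = (powMonoidHom 2 : Fˣ →* Fˣ).range := by
    congr 1
    ext1 u
    show multHom hm (scalarSim u) = u ^ 2
    rw [mult_scalarSim, sq]
  have h2 : ((multHom hm).comp (baseSim (m := m) ι)).range = (Units.map ι.toMonoidHom).range := by
    rw [show (multHom hm).comp (baseSim ι) = (Units.map ι.toMonoidHom).comp (multHom hm) from
      MonoidHom.ext fun A => mult_baseSim hm ι A, MonoidHom.range_comp,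
      MonoidHom.range_eq_top.mpr (multHom_surjective hm), ← MonoidHom.range_eq_map]
  rw [h1, h2, sup_comm (powMonoidHom 2 : Fˣ →* Fˣ).range, sup_assoc, sup_idem, index_sup_cyclic, index_baseUnits,
    index_squares]

theorem gcd_geom {p f r : ℕ} (hp : p.Prime) (hrf : r ∣ f) (hf : 1 ≤ f) :
    Nat.gcd ((p ^ f - 1) / (p ^ (f / r) - 1)) (Nat.gcd 2 (p ^ f - 1)) = Nat.gcd (Nat.gcd 2 (p ^ f - 1)) r := by
  obtain ⟨d, rfl⟩ := hrf
  have hr : 0 < r := pos_of_mul_pos_left (by omega) (Nat.zero_le d)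
  rw [Nat.mul_div_cancel_left d hr, mul_comm r d, pow_mul]
  have hd : 1 ≤ d := Nat.pos_of_ne_zero fun h => by subst h; simp at hf
  set Q := p ^ d with hQ
  have hQ2 : 2 ≤ Q := hp.two_le.trans (Nat.le_self_pow (by omega) p)
  have hS : (Q ^ r - 1) / (Q - 1) = ∑ i ∈ Finset.range r, Q ^ i := (Nat.geomSum_eq hQ2 r).symm
  rw [hS]
  set g := Nat.gcd 2 (Q ^ r - 1) with hg
  rcases (Nat.dvd_prime Nat.prime_two).mp (Nat.gcd_dvd_left 2 (Q ^ r - 1)) with h | h
  · rw [hg, h, Nat.gcd_one_right, Nat.gcd_one_left]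
  · rw [hg, h]
    have hodd : Q % 2 = 1 := by
      have h1 : 2 ∣ Q ^ r - 1 := h ▸ Nat.gcd_dvd_right 2 (Q ^ r - 1)
      have h2 : 1 ≤ Q ^ r := Nat.one_le_pow _ _ (by omega)
      rcases Nat.mod_two_eq_zero_or_one Q with h3 | h3
      · have : Q ^ r % 2 = 0 := by rw [Nat.pow_mod, h3, zero_pow hr.ne', Nat.zero_mod]
        omega
      · exact h3
    have hsum : (∑ i ∈ Finset.range r, Q ^ i) % 2 = r % 2 := by
      rw [Finset.sum_nat_mod]
      simp [Nat.pow_mod, hodd]
    rw [Nat.gcd_comm, Nat.gcd_rec, hsum, ← Nat.gcd_rec]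

theorem field_facts [Fintype F₀] {p f : ℕ} [Fact p.Prime] (hF : Fintype.card F = p ^ f) (hf : 1 ≤ f) (hm : 2 ≤ m)
    (hs : m = 2 → 3 ≤ Fintype.card F) {x : MulAut (Cfsg.PSp m F)} (hx : Cfsg.IsFieldAutClassPSp x) {r : ℕ}
    (hxr : orderOf x = r) (hF₀ : Fintype.card F₀ = p ^ (f / r)) :
    r ∣ f ∧ Nonempty (↥(Cfsg.inndiagPSp m F ⊓ Subgroup.centralizer {x}) ≃* Cfsg.PGSp m F₀) ∧
      Cfsg.splitClassCount (Cfsg.inndiagPSp m F) (Cfsg.Inn (Cfsg.PSp m F)) x =
        Nat.gcd (Nat.gcd 2 (p ^ f - 1)) r := by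
  obtain ⟨h', σ, hσr, hh'⟩ := normal_form hm hs hx hxr
  obtain ⟨e⟩ := exists_equiv_fixedField σ hF hσr hF₀
  let ι : F₀ →+* F := (fixedField σ).subtype.comp e.toRingHom
  have hι : ∀ a, σ (ι a) = ι a := fun a => (mem_fixedField σ).mp (e a).2
  have hι' : ∀ y, σ y = y → ∃ a, ι a = y := fun y hy => ⟨e.symm ⟨y, hy⟩, by simp [ι]⟩
  have hmem : simAut h' ∈ Cfsg.inndiagPSp m F := by rw [inndiagPSp_eq]; exact ⟨h', rfl⟩
  have hrf := (fixedField_card σ hF hσr).1
  refine ⟨hrf, ?_, ?_⟩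
  · obtain ⟨e₁⟩ := centralizer_equiv_of_conj _ hmem hh'
    obtain ⟨e₂⟩ := centralizer_equiv (m := m) (by omega) σ ι hι hι'
    exact ⟨e₁.trans e₂⟩
  · rw [splitClassCount_congr _ _ (x' := fieldAut σ) (isConjUnder_symm ⟨_, hmem, hh'⟩),
      split_count (m := m) (by omega) σ ι hι hι', hF, hF₀, gcd_geom Fact.out hrf hf]

end CfsgLib.AutPSp
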